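import Cfsg.Agent.LocalFlavell.HalfFixed.Setup

/-!
An abelian normal subgroup either yields the bound (systems of imprimitivity, or a field on which `x`
acts nontrivially) or spans a field commuting with `x`.
-/

set_option autoImplicit false
set_option linter.style.haveILetI false
set_option linter.unusedSectionVars false

namespace Cfsg.Agent.LocalFlavell.HalfFixed

universe u v w

variable {G : Type u} [Group G] [Finite G] {k : Type v} [Field k] {V : Type w} [AddCommGroup V]
  [Module k V] [FiniteDimensional k V] {p : ℕ} [hpF : Fact p.Prime] {x : G} (ρ : Representation k G V)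

/-- The algebra spanned by the images of a subgroup. -/
def span (A : Subgroup G) : Subalgebra k (Module.End k V) := Algebra.adjoin k (ρ '' (A : Set G))

theorem span_comm (A : Subgroup G) [hc : IsMulCommutative A] :
    ∀ r ∈ span ρ A, ∀ s ∈ span ρ A, r * s = s * r := by
  intro r hr s hs
  have h : ∀ a ∈ A, ∀ b ∈ A, Commute (ρ a) (ρ b) := fun a ha b hb =>
    (show Commute a b from congrArg Subtype.val (mul_comm' (⟨a, ha⟩ : A) ⟨b, hb⟩)).map ρ
  refine (Algebra.commute_of_mem_adjoin_of_forall_mem_commute hr ?_).eq.symm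
  rintro _ ⟨a, ha, rfl⟩
  refine (Algebra.commute_of_mem_adjoin_of_forall_mem_commute hs ?_).symm
  rintro _ ⟨b, hb, rfl⟩
  exact (h a ha b hb)

theorem cj_mem_span (A : Subgroup G) [A.Normal] (g : G) {r : Module.End k V} (hr : r ∈ span ρ A) :
    cj ρ g r ∈ span ρ A := by
  have h : cj ρ g r ∈ (span ρ A).map (cj ρ g) := ⟨r, hr, rfl⟩
  rw [span, AlgHom.map_adjoin] at h
  refine Algebra.adjoin_mono ?_ h
  rintro _ ⟨_, ⟨a, ha, rfl⟩, rfl⟩
  exact ⟨g * a * g⁻¹, Subgroup.Normal.conj_mem inferInstance a ha g, (cj_rho ρ g a).symm⟩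

variable {ρ} (S : Setup p x ρ)
include S

/-- A nilpotent element of the algebra of an abelian normal subgroup is zero. -/
theorem span_reduced (hV : Nontrivial V) (A : Subgroup G) [A.Normal] [IsMulCommutative A]
    {r : Module.End k V} (hr : r ∈ span ρ A) (hn : IsNilpotent r) : r = 0 := by
  letI : CommRing (span ρ A) :=
    { (inferInstance : Ring (span ρ A)) with
      mul_comm := fun a b => Subtype.ext (span_comm ρ A a a.2 b b.2) }
  haveI : IsArtinianRing (span ρ A) := IsArtinianRing.of_finite k _
  let W : Submodule k V :=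
    { carrier := {v | ∀ s : span ρ A, IsNilpotent s → (s : Module.End k V) v = 0}
      zero_mem' := fun s _ => map_zero _
      add_mem' := fun ha hb s hs => by rw [map_add, ha s hs, hb s hs, add_zero]
      smul_mem' := fun c v hv s hs => by rw [map_smul, hv s hs, smul_zero] }
  have hW : ∀ g : G, ∀ v ∈ W, ρ g v ∈ W := by
    intro g v hv s hs
    have hs' : IsNilpotent (⟨cj ρ g⁻¹ s, cj_mem_span ρ A g⁻¹ s.2⟩ : span ρ A) := by
      obtain ⟨n, hn⟩ := hs
      refine ⟨n, Subtype.ext ?_⟩
      rw [SubmonoidClass.coe_pow]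
      show (cj ρ g⁻¹ (s : Module.End k V)) ^ n = 0
      rw [← map_pow, ← SubmonoidClass.coe_pow, hn]
      exact map_zero _
    have := hv _ hs'
    have h2 : cj ρ g (cj ρ g⁻¹ (s : Module.End k V)) = s := by rw [cj_cj, mul_inv_cancel, cj_one]
    rw [← h2, cj_apply_vec, this, map_zero]
  have hne : W ≠ ⊥ := by
    obtain ⟨N, hN⟩ := IsArtinianRing.isNilpotent_nilradical (R := span ρ A)
    classical
    have hex : ∃ n, (nilradical (span ρ A)) ^ n = ⊥ := ⟨N, hN⟩
    have hm := Nat.find_spec hex
    rcases Nat.eq_zero_or_pos (Nat.find hex) with h0 | h0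
    · rw [h0, pow_zero, Ideal.one_eq_top] at hm
      have : (1 : span ρ A) ∈ (⊥ : Ideal (span ρ A)) := hm ▸ Submodule.mem_top
      rw [Ideal.mem_bot] at this
      obtain ⟨v, hv⟩ := exists_ne (0 : V)
      exact absurd (LinearMap.congr_fun (congrArg Subtype.val this) v) (by simpa using hv)
    · obtain ⟨t, ht, ht0⟩ : ∃ t ∈ nilradical (span ρ A) ^ (Nat.find hex - 1), t ≠ 0 := by
        have h := Nat.find_min hex (show Nat.find hex - 1 < Nat.find hex by omega)
        exact Submodule.exists_mem_ne_zero_of_ne_bot h
      obtain ⟨v, hv⟩ : ∃ v, (t : Module.End k V) v ≠ 0 := by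
        by_contra h
        push Not at h
        exact ht0 (Subtype.ext (LinearMap.ext h))
      intro e
      refine hv ((Submodule.mem_bot k).mp (e.le ?_))
      intro s hs
      have : s * t = 0 := by
        have h := Ideal.mul_mem_mul ((mem_nilradical).mpr hs) ht
        rw [← pow_succ', Nat.sub_add_cancel h0, hm, Ideal.mem_bot] at h
        exact h
      exact LinearMap.congr_fun (congrArg Subtype.val this) v
  have htop := (S.irr W hW).resolve_left hne
  refine LinearMap.ext fun v => ?_
  have hv : v ∈ W := by rw [htop]; exact Submodule.mem_top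
  refine hv ⟨r, hr⟩ ?_
  obtain ⟨n, hn⟩ := hn
  exact ⟨n, Subtype.ext (by rw [SubmonoidClass.coe_pow]; exact hn)⟩

/-- A family of idempotents permuted transitively gives the bound. -/
theorem half_of_blocks (hsol : Group.IsSolvable G) {ι : Type*} [Finite ι] [Nontrivial ι]
    [MulAction G ι] [MulAction.IsPretransitive G ι] (e : ι → Module.End k V)
    (hsum : ∀ v : V, (∀ i, e i v = 0) → v = 0)
    (horth : ∀ i j, i ≠ j → e i * e j = 0) (hidem : ∀ i, e i * e i = e i)
    (hperm : ∀ (g : G) i, cj ρ g (e i) = e (g • i)) (hV : Nontrivial V) : Half ρ x := by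
  classical
  haveI := Fintype.ofFinite ι
  obtain ⟨i0⟩ : Nonempty ι := inferInstance
  set d := Module.finrank k (LinearMap.range (e i0))
  have hd : ∀ i, Module.finrank k (LinearMap.range (e i)) = d := by
    intro i
    obtain ⟨g, rfl⟩ := MulAction.exists_smul_eq G i0 i
    have hinj : Function.Injective (ρ g) := fun a b h => by
      have := congrArg (ρ g⁻¹) h
      simpa [← Module.End.mul_apply, rho_inv_mul] using this
    have h : LinearMap.range (e (g • i0)) = (LinearMap.range (e i0)).map (ρ g) := by
      refine le_antisymm ?_ ?_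
      · rintro _ ⟨v, rfl⟩
        refine ⟨_, ⟨ρ g⁻¹ v, rfl⟩, ?_⟩
        rw [← hperm, cj_apply]
        rfl
      · rintro _ ⟨_, ⟨v, rfl⟩, rfl⟩
        exact ⟨ρ g v, by rw [← hperm, cj_apply_vec]⟩
    rw [h]
    exact (Submodule.equivMapOfInjective _ hinj _).finrank_eq.symm
  -- the sum is direct
  have hn : Nat.card ι * d ≤ Module.finrank k V := by
    let F : (∀ i, LinearMap.range (e i)) →ₗ[k] V :=
      ∑ i, (LinearMap.range (e i)).subtype.comp (LinearMap.proj i)
    have hF : Function.Injective F := by
      rw [injective_iff_map_eq_zero]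
      intro c hc
      funext j
      obtain ⟨w, hw⟩ := (c j).2
      have h1 : e j (F c) = (c j : V) := by
        simp only [F, LinearMap.sum_apply, LinearMap.comp_apply, LinearMap.proj_apply,
          Submodule.subtype_apply, map_sum]
        rw [Finset.sum_eq_single j]
        · rw [← hw, ← Module.End.mul_apply, hidem]
        · intro i _ hij
          obtain ⟨w', hw'⟩ := (c i).2
          rw [← hw', ← Module.End.mul_apply, horth j i (Ne.symm hij), LinearMap.zero_apply]
        · simp
      rw [hc, map_zero] at h1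
      exact Subtype.ext h1.symm
    have h := LinearMap.finrank_le_finrank_of_injective hF
    rw [Module.finrank_pi_fintype] at h
    simpa [hd, Nat.card_eq_fintype_card] using h
  let π : Equiv.Perm ι := MulAction.toPermHom G ι x
  have hπ : π ^ p = 1 := by rw [← map_pow, S.xp, map_one]
  have hfix := finrank_fixed_le p (ρ x) π hπ e hsum (fun i v => by
    show ρ x (e i v) = e (x • i) (ρ x v)
    rw [← hperm, cj_apply_vec]) d (fun i => (hd i).le)
  -- fixed blocks are at most a third
  set H := MulAction.stabilizer G i0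
  have hH : H ≠ ⊤ := by
    intro h
    obtain ⟨i, hi⟩ := exists_ne i0
    obtain ⟨g, hg⟩ := MulAction.exists_smul_eq G i0 i
    exact hi (hg ▸ (h.ge (Subgroup.mem_top g) :))
  have hthird := card_carry_le p (by have := S.hp; omega) hsol S.xp S.gen hH
  have hcount : Nat.card {i : ι // π i = i} * Nat.card H ≤ Nat.card (carry x H) := by
    choose t ht using fun i : ι => MulAction.exists_smul_eq G i0 i
    rw [← Nat.card_prod]
    refine Nat.card_le_card_of_injective (fun z : {i : ι // π i = i} × H =>
      (⟨t z.1 * z.2, ?_⟩ : carry x H)) fun a b hab => ?_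
    · show (t z.1 * (z.2 : G))⁻¹ * x * (t z.1 * z.2) ∈ H
      have h1 : (z.2 : G) • i0 = i0 := z.2.2
      have h2 : x • (z.1 : ι) = z.1 := z.1.2
      rw [MulAction.mem_stabilizer_iff]
      simp only [mul_smul, mul_inv_rev]
      rw [h1, ht, h2, inv_smul_eq_iff, inv_smul_eq_iff, h1, ht]
    · have hab' : t a.1 * a.2 = t b.1 * b.2 := congrArg Subtype.val hab
      have h := congrArg (· • i0) hab'
      simp only [mul_smul] at h
      rw [show (a.2 : G) • i0 = i0 from a.2.2, show (b.2 : G) • i0 = i0 from b.2.2, ht, ht] at h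
      have h12 : a.1 = b.1 := Subtype.ext h
      rw [h12] at hab'
      exact Prod.ext h12 (Subtype.ext (mul_left_cancel hab'))
  have hindex : Nat.card G = Nat.card ι * Nat.card H := by
    rw [← H.index_mul_card, MulAction.index_stabilizer_of_transitive]
  have h3 : 3 * Nat.card {i : ι // π i = i} ≤ Nat.card ι := by
    refine Nat.le_of_mul_le_mul_right ?_ (Nat.card_pos (α := H))
    rw [mul_assoc, ← hindex]
    exact (Nat.mul_le_mul_left 3 hcount).trans hthird
  have hp := S.hp
  have hp5 : 5 ≤ p := by
    by_contra h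
    have h4 : p = 4 := by omega
    exact absurd (h4 ▸ hpF.out) (by norm_num)
  set c := Module.finrank k (fixed ρ x)
  set n := Module.finrank k V
  have hn0 : 0 < n := Module.finrank_pos
  show 2 * c < n
  set f := Nat.card {i : ι // π i = i}
  set m := Nat.card ι
  change p * c ≤ d * (m + (p - 1) * f) at hfix
  obtain ⟨q, rfl⟩ : ∃ q, p = q + 5 := ⟨p - 5, by omega⟩
  rw [show q + 5 - 1 = q + 4 by omega] at hfix
  have h7 : 3 * ((q + 5) * c) ≤ n * (q + 7) := by
    calc 3 * ((q + 5) * c) ≤ 3 * (d * (m + (q + 4) * f)) := Nat.mul_le_mul_left _ hfix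
      _ = d * (3 * m + (q + 4) * (3 * f)) := by ring
      _ ≤ d * (3 * m + (q + 4) * m) := Nat.mul_le_mul_left _ (Nat.add_le_add_left (Nat.mul_le_mul_left _ h3) _)
      _ = (m * d) * (q + 7) := by ring
      _ ≤ n * (q + 7) := Nat.mul_le_mul_right _ hn
  nlinarith

/-- The dichotomy for an abelian normal subgroup. -/
theorem half_or_field (hsol : Group.IsSolvable G) (hV : Nontrivial V) (A : Subgroup G) [A.Normal]
    [IsMulCommutative A] :
    Half ρ x ∨ ((∀ r ∈ span ρ A, r ≠ 0 → ∃ s ∈ span ρ A, s * r = 1) ∧ A ≤ Subgroup.center G) := by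
  classical
  letI : CommRing (span ρ A) :=
    { (inferInstance : Ring (span ρ A)) with
      mul_comm := fun a b => Subtype.ext (span_comm ρ A a a.2 b b.2) }
  haveI : IsArtinianRing (span ρ A) := IsArtinianRing.of_finite k _
  haveI : IsReduced (span ρ A) := ⟨fun r hr => Subtype.ext (span_reduced S hV A r.2 (hr.map (span ρ A).val))⟩
  haveI : Nontrivial (span ρ A) := by
    obtain ⟨v, hv⟩ := exists_ne (0 : V)
    refine ⟨⟨0, 1, fun e => hv ?_⟩⟩
    simpa using (LinearMap.congr_fun (congrArg Subtype.val e) v).symm
  by_cases hm : Nontrivial (MaximalSpectrum (span ρ A))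
  · left
    haveI := hm
    let Φ := IsArtinianRing.equivPi (span ρ A)
    let e : MaximalSpectrum (span ρ A) → span ρ A := fun I => Φ.symm (Pi.single I 1)
    have heI : ∀ I, Φ (e I) = Pi.single I 1 := fun I => Φ.apply_symm_apply _
    have hself : ∀ I, e I - 1 ∈ I.asIdeal := by
      intro I
      rw [← Ideal.Quotient.eq_zero_iff_mem, map_sub, map_one, sub_eq_zero]
      have := congrFun (heI I) I
      rw [Pi.single_eq_same, IsArtinianRing.equivPi_apply] at this
      exact this
    have hother : ∀ I J, J ≠ I → e I ∈ J.asIdeal := by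
      intro I J hJ
      rw [← Ideal.Quotient.eq_zero_iff_mem]
      have := congrFun (heI I) J
      rw [Pi.single_eq_of_ne hJ, IsArtinianRing.equivPi_apply] at this
      exact this
    have huniq : ∀ (I : MaximalSpectrum (span ρ A)) (r : span ρ A), r - 1 ∈ I.asIdeal →
        (∀ J, J ≠ I → r ∈ J.asIdeal) → r = e I := by
      intro I r h1 h2
      refine Φ.injective ?_
      rw [heI]
      funext J
      rw [IsArtinianRing.equivPi_apply]
      by_cases hJ : J = I
      · subst hJ
        rw [Pi.single_eq_same]
        rw [← map_one (Ideal.Quotient.mk J.asIdeal)]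
        exact Ideal.Quotient.eq.mpr h1
      · rw [Pi.single_eq_of_ne hJ]
        exact Ideal.Quotient.eq_zero_iff_mem.mpr (h2 J hJ)
    let σ : G → (span ρ A →+* span ρ A) := fun g =>
      { toFun := fun r => ⟨cj ρ g r, cj_mem_span ρ A g r.2⟩
        map_one' := Subtype.ext (map_one (cj ρ g))
        map_mul' := fun a b => Subtype.ext (map_mul (cj ρ g) (a : Module.End k V) b)
        map_zero' := Subtype.ext (map_zero (cj ρ g))
        map_add' := fun a b => Subtype.ext (map_add (cj ρ g) (a : Module.End k V) b) }
    have hσσ : ∀ g h r, σ g (σ h r) = σ (g * h) r := fun g h r => Subtype.ext (cj_cj ρ g h r)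
    have hσ1 : ∀ r, σ 1 r = r := fun r => Subtype.ext (cj_one ρ r)
    have hsurj : ∀ g, Function.Surjective (σ g) := fun g r => ⟨σ g⁻¹ r, by rw [hσσ, mul_inv_cancel, hσ1]⟩
    letI : MulAction G (MaximalSpectrum (span ρ A)) :=
      { smul := fun g I => ⟨I.asIdeal.comap (σ g⁻¹),
          Ideal.comap_isMaximal_of_surjective _ (hsurj g⁻¹) (H := I.isMaximal)⟩
        one_smul := fun I => MaximalSpectrum.ext (by
          ext r; show σ 1⁻¹ r ∈ I.asIdeal ↔ _; rw [inv_one, hσ1])
        mul_smul := fun g h I => MaximalSpectrum.ext (by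
          ext r; show σ (g * h)⁻¹ r ∈ I.asIdeal ↔ σ h⁻¹ (σ g⁻¹ r) ∈ I.asIdeal
          rw [hσσ, mul_inv_rev]) }
    have hmem : ∀ g (I : MaximalSpectrum (span ρ A)) r, r ∈ (g • I).asIdeal ↔ σ g⁻¹ r ∈ I.asIdeal :=
      fun g I r => Iff.rfl
    have hperm : ∀ g I, σ g (e I) = e (g • I) := by
      intro g I
      refine huniq _ _ ?_ fun J hJ => ?_
      · rw [hmem, map_sub, map_one, hσσ, inv_mul_cancel, hσ1]
        exact hself I
      · obtain ⟨J', rfl⟩ : ∃ J', J = g • J' := ⟨g⁻¹ • J, (smul_inv_smul g J).symm⟩
        rw [hmem, hσσ, inv_mul_cancel, hσ1]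
        exact hother I J' fun h => hJ (by rw [h])
    have hidem : ∀ I, e I * e I = e I := fun I => Φ.injective (by
      rw [map_mul, heI]; funext J; by_cases h : J = I
      · subst h; simp
      · simp [h])
    have horth : ∀ I J, I ≠ J → e I * e J = 0 := fun I J hIJ => Φ.injective (by
      rw [map_mul, heI, heI, map_zero]; funext K; by_cases h : K = I
      · subst h; simp [hIJ]
      · simp [h])
    haveI := Fintype.ofFinite (MaximalSpectrum (span ρ A))
    have hone : ∑ I, e I = 1 := Φ.injective (by
      rw [map_sum, map_one]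
      simp only [heI]
      exact Finset.univ_sum_single (fun _ => 1))
    have hsum : ∀ v : V, (∀ I, (e I : Module.End k V) v = 0) → v = 0 := fun v hv => by
      have := LinearMap.congr_fun (congrArg Subtype.val hone) v
      simp only [AddSubmonoidClass.coe_finsetSum, LinearMap.sum_apply, hv, Finset.sum_const_zero] at this
      simpa using this.symm
    haveI : MulAction.IsPretransitive G (MaximalSpectrum (span ρ A)) := by
      refine ⟨fun I J => ?_⟩
      by_contra hcon
      let O : Finset (MaximalSpectrum (span ρ A)) := Finset.univ.filter fun K => ∃ g : G, g • I = K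
      set E : Module.End k V := ∑ K ∈ O, (e K : Module.End k V)
      have hfix : ∀ g, cj ρ g E = E := by
        intro g
        rw [map_sum]
        refine Finset.sum_bij (fun K _ => g • K) (fun K hK => ?_) (fun a _ b _ h => MulAction.injective g h)
          (fun K hK => ⟨g⁻¹ • K, ?_, smul_inv_smul g K⟩) fun K _ => congrArg Subtype.val (hperm g K)
        · simp only [O, Finset.mem_filter, Finset.mem_univ, true_and] at hK ⊢
          obtain ⟨h, rfl⟩ := hK
          exact ⟨g * h, mul_smul g h I⟩
        · simp only [O, Finset.mem_filter, Finset.mem_univ, true_and] at hK ⊢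
          obtain ⟨h, rfl⟩ := hK
          exact ⟨g⁻¹ * h, mul_smul _ h I⟩
      have hJO : J ∉ O := by
        simp only [O, Finset.mem_filter, Finset.mem_univ, true_and]
        exact hcon
      have hnz : ∀ K, (e K : Module.End k V) ≠ 0 := fun K h => by
        have h2 := congrFun (heI K) K
        rw [show e K = 0 from Subtype.ext h, map_zero, Pi.zero_apply, Pi.single_eq_same] at h2
        exact zero_ne_one h2
      have hJE : (e J : Module.End k V) * E = 0 := by
        rw [Finset.mul_sum]
        exact Finset.sum_eq_zero fun K hK =>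
          congrArg Subtype.val (horth J K fun h => hJO (h ▸ hK))
      rcases range_bot_or_top ρ S hfix with h | h
      · rw [LinearMap.range_eq_bot] at h
        refine hnz I ?_
        have : (e I : Module.End k V) * E = e I := by
          rw [Finset.mul_sum, Finset.sum_eq_single I]
          · exact congrArg Subtype.val (hidem I)
          · exact fun K _ hK => congrArg Subtype.val (horth I K (Ne.symm hK))
          · exact fun hI => absurd (Finset.mem_filter.mpr ⟨Finset.mem_univ _, 1, one_smul G I⟩) hI
        rw [← this, h, mul_zero]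
      · refine hnz J (LinearMap.ext fun v => ?_)
        obtain ⟨w, rfl⟩ : v ∈ LinearMap.range E := by rw [h]; exact Submodule.mem_top
        rw [← Module.End.mul_apply, hJE]
        rfl
    exact half_of_blocks S hsol (fun I => (e I : Module.End k V)) hsum
      (fun I J h => congrArg Subtype.val (horth I J h)) (fun I => congrArg Subtype.val (hidem I))
      (fun g I => congrArg Subtype.val (hperm g I)) hV
  · haveI : Subsingleton (MaximalSpectrum (span ρ A)) := not_nontrivial_iff_subsingleton.mp hm
    haveI : IsLocalRing (span ρ A) := by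
      obtain ⟨I, hI⟩ := Ideal.exists_maximal (span ρ A)
      exact IsLocalRing.of_unique_max_ideal ⟨I, hI, fun J hJ =>
        congrArg MaximalSpectrum.asIdeal (Subsingleton.elim (⟨J, hJ⟩ : MaximalSpectrum _) ⟨I, hI⟩)⟩
    have hF : IsField (span ρ A) := IsArtinianRing.isField_of_isReduced_of_isLocalRing _
    letI : Field (span ρ A) := hF.toField
    by_cases hc : ∀ a ∈ A, a * x = x * a
    · refine Or.inr ⟨fun r hr hr0 => ?_, ?_⟩
      · obtain ⟨s, hs⟩ := hF.mul_inv_cancel (a := ⟨r, hr⟩) (fun h => hr0 (congrArg Subtype.val h))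
        exact ⟨s, s.2, (span_comm ρ A _ s.2 r hr).trans (congrArg Subtype.val hs)⟩
      · intro a ha
        have hN : (Subgroup.centralizer (A : Set G)) = ⊤ :=
          S.gen _ inferInstance (Subgroup.mem_centralizer_iff.mpr fun b hb => hc b hb)
        rw [Subgroup.mem_center_iff]
        intro g
        exact (Subgroup.mem_centralizer_iff.mp (hN.ge (Subgroup.mem_top g)) a ha).symm
    left
    push Not at hc
    obtain ⟨a, ha, hax⟩ := hc
    have hρa : ρ a ∈ span ρ A := Algebra.subset_adjoin ⟨a, ha, rfl⟩
    let r : Fin p → span ρ A := fun j =>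
      ⟨cj ρ (x ^ (j : ℕ)) (ρ a), cj_mem_span ρ A _ hρa⟩
    have hrinj : Function.Injective r := by
      intro i j hij
      have hij' : cj ρ (x ^ (i : ℕ)) (ρ a) = cj ρ (x ^ (j : ℕ)) (ρ a) := congrArg Subtype.val hij
      rw [cj_rho, cj_rho] at hij'
      have hconj := S.faithful hij'
      by_contra hne
      have hpow : ∀ d : ℕ, x ^ d * a * (x ^ d)⁻¹ = a → ¬ p ∣ d → False := by
        intro d hd hpd
        obtain ⟨m, hm⟩ := exists_pow_eq_self_of_coprime (x := x) (n := d)
          (Nat.Coprime.coprime_dvd_right (orderOf_dvd_of_pow_eq_one S.xp)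
            ((Nat.Prime.coprime_iff_not_dvd hpF.out).mpr hpd).symm)
        have hc : Commute (x ^ d) a := mul_inv_eq_iff_eq_mul.mp hd
        have := hc.pow_left m
        rw [hm] at this
        exact hax this.eq.symm
      have hne' : (i : ℕ) ≠ j := fun h => hne (Fin.ext h)
      rcases le_total (i : ℕ) j with h | h
      · obtain ⟨d, hd⟩ := Nat.exists_eq_add_of_le h
        refine hpow d ?_ fun hdvd => hne' ?_
        · calc x ^ d * a * (x ^ d)⁻¹ = (x ^ (i : ℕ))⁻¹ * (x ^ (j : ℕ) * a * (x ^ (j : ℕ))⁻¹) * x ^ (i : ℕ) := by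
                rw [hd, pow_add]; group
            _ = a := by rw [← hconj]; group
        · have := Nat.eq_zero_of_dvd_of_lt hdvd (by omega)
          omega
      · obtain ⟨d, hd⟩ := Nat.exists_eq_add_of_le h
        refine hpow d ?_ fun hdvd => hne' ?_
        · calc x ^ d * a * (x ^ d)⁻¹ = (x ^ (j : ℕ))⁻¹ * (x ^ (i : ℕ) * a * (x ^ (i : ℕ))⁻¹) * x ^ (j : ℕ) := by
                rw [hd, pow_add]; group
            _ = a := by rw [hconj]; group
        · have := Nat.eq_zero_of_dvd_of_lt hdvd (by omega)
          omega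
    let F : (Fin p → fixed ρ x) →ₗ[k] V :=
      ∑ i : Fin p, (((ρ a) ^ (i : ℕ) : Module.End k V)).comp ((fixed ρ x).subtype.comp (LinearMap.proj i))
    have hFinj : Function.Injective F := by
      rw [injective_iff_map_eq_zero]
      intro c hc
      have hFc : ∑ i : Fin p, ((ρ a) ^ (i : ℕ)) (c i : V) = 0 := by
        simpa [F, LinearMap.sum_apply] using hc
      have hx : ∀ (j : ℕ) (v : V), ρ x v = v → ρ (x ^ j) v = v := by
        intro j v hv
        induction j with
        | zero => simp
        | succ j ih => rw [pow_succ, map_mul, Module.End.mul_apply, hv, ih]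
      have hj : ∀ j : Fin p, ∑ i : Fin p, ((r j) ^ (i : ℕ) : span ρ A).1 (c i : V) = 0 := by
        intro j
        have := congrArg (ρ (x ^ (j : ℕ))) hFc
        rw [map_sum, map_zero] at this
        rw [← this]
        refine Finset.sum_congr rfl fun i _ => ?_
        rw [SubmonoidClass.coe_pow]
        show (cj ρ (x ^ (j : ℕ)) (ρ a) ^ (i : ℕ)) (c i : V) = _
        rw [← map_pow]
        conv_lhs => rw [← hx j (c i : V) (mem_fixed.mp (c i).2)]
        exact cj_apply_vec ρ _ _ _
      set M := Matrix.vandermonde r with hM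
      have hdet : M.det ≠ 0 := Matrix.det_vandermonde_ne_zero_iff.mpr hrinj
      obtain ⟨s, hs⟩ := hF.mul_inv_cancel hdet
      funext i
      refine Subtype.ext ?_
      have key : ∑ j : Fin p, (M.adjugate i j).1 (∑ l : Fin p, (M j l).1 (c l : V)) = M.det.1 (c i : V) := by
        simp_rw [map_sum]
        rw [Finset.sum_comm]
        have : ∀ l, ∑ j : Fin p, (M.adjugate i j).1 ((M j l).1 (c l : V)) =
            ((M.adjugate * M) i l).1 (c l : V) := by
          intro l
          rw [Matrix.mul_apply, AddSubmonoidClass.coe_finsetSum, LinearMap.sum_apply]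
          rfl
        simp_rw [this, Matrix.adjugate_mul, Matrix.smul_apply, smul_eq_mul]
        rw [Finset.sum_eq_single i]
        · simp
        · intro l _ hl
          rw [Matrix.one_apply_ne (Ne.symm hl), mul_zero]
          rfl
        · simp
      have h0 : M.det.1 (c i : V) = 0 := by
        rw [← key]
        refine Finset.sum_eq_zero fun j _ => ?_
        rw [show ∑ l : Fin p, (M j l).1 (c l : V) = 0 from hj j, map_zero]
      have := congrArg (s : Module.End k V) h0
      rw [map_zero, ← Module.End.mul_apply,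
        show (s : Module.End k V) * M.det.1 = 1 from
          (span_comm ρ A _ s.2 _ M.det.2).trans (congrArg Subtype.val hs)] at this
      exact this
    have h := LinearMap.finrank_le_finrank_of_injective hFinj
    rw [Module.finrank_pi_fintype] at h
    simp only [Finset.sum_const, Finset.card_univ, Fintype.card_fin, smul_eq_mul] at h
    have hp := S.hp
    have hn0 : 0 < Module.finrank k V := Module.finrank_pos
    show 2 * Module.finrank k (fixed ρ x) < Module.finrank k V
    nlinarith

end Cfsg.Agent.LocalFlavell.HalfFixed
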