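import Mathlib
import Cfsg.Agent.Lib.Hall.MinimalNormal
import Cfsg.Agent.Lib.Coprime.Basic

/-!
Counting tools for bounding fixed points of an element of prime order: orbits on a finite set, fixed
vectors of an endomorphism permuting the ranges of projections, and fixed points on the cosets of a
subgroup of a solvable group generated by the conjugates of the element.
-/

set_option autoImplicit false
set_option linter.style.haveILetI false

namespace Cfsg.Agent.LocalFlavell.HalfFixed

universe u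

/-- A permutation of prime order: representatives of the orbits. -/
theorem exists_orbit_reps {ι : Type*} [Finite ι] (p : ℕ) [hp : Fact p.Prime] (π : Equiv.Perm ι)
    (hπ : π ^ p = 1) :
    ∃ S : Set ι, (∀ i, ∃ j : ℕ, ∃ s ∈ S, i = (π ^ j) s) ∧
      p * Nat.card S ≤ Nat.card ι + (p - 1) * Nat.card {i : ι // π i = i} := by
  classical
  haveI := Fintype.ofFinite ι
  let e : ι ≃ Fin (Fintype.card ι) := Fintype.equivFin ι
  have hmod : ∀ j : ℕ, π ^ (j % p) = π ^ j := fun j => by
    conv_rhs => rw [← Nat.mod_add_div j p, pow_add, pow_mul, hπ, one_pow, mul_one]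
  let S : Set ι := {i | ∀ j : ℕ, e i ≤ e ((π ^ j) i)}
  refine ⟨S, fun i => ?_, ?_⟩
  · obtain ⟨j, hj, hmin⟩ := Finset.exists_min_image (Finset.range p) (fun j => e ((π ^ j) i))
      ⟨0, Finset.mem_range.mpr hp.out.pos⟩
    refine ⟨p - j, (π ^ j) i, fun k => ?_, ?_⟩
    · rw [← Equiv.Perm.mul_apply, ← pow_add, ← hmod (k + j)]
      exact hmin _ (Finset.mem_range.mpr (Nat.mod_lt _ hp.out.pos))
    · rw [← Equiv.Perm.mul_apply, ← pow_add, Nat.sub_add_cancel (Finset.mem_range.mp hj).le, hπ,
        Equiv.Perm.one_apply]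
  · set A := {i : ι // π i = i}
    set M := {i : ι // π i ≠ i}
    have hcard : Nat.card ι = Nat.card A + Nat.card M := by
      rw [← Nat.card_sum]; exact Nat.card_congr (Equiv.sumCompl _).symm
    let S' := {i : ι // i ∈ S ∧ π i ≠ i}
    have hS : Nat.card S ≤ Nat.card A + Nat.card S' := by
      rw [← Nat.card_sum]
      refine Nat.card_le_card_of_injective (fun s : S => if h : π s = s then (Sum.inl ⟨s, h⟩ : A ⊕ S')
        else Sum.inr ⟨s, s.2, h⟩) fun s t hst => ?_
      by_cases hs : π s = s <;> by_cases ht : π t = t <;> simp [hs, ht] at hst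
      · exact Subtype.ext (congrArg Subtype.val hst :)
      · exact Subtype.ext (congrArg Subtype.val hst :)
    have hfree : ∀ (i : ι) (j : ℕ), π i ≠ i → (π ^ j) i = i → p ∣ j := by
      intro i j hi hj
      by_contra hd
      obtain ⟨k, hk⟩ := exists_pow_eq_self_of_coprime (x := π) (n := j)
        (Nat.Coprime.coprime_dvd_right (orderOf_dvd_of_pow_eq_one hπ)
          ((Nat.Prime.coprime_iff_not_dvd hp.out).mpr hd).symm)
      refine hi ?_
      have h1 : π ^ j ∈ MulAction.stabilizer (Equiv.Perm ι) i := hj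
      have h2 := pow_mem h1 k
      rw [hk] at h2
      exact h2
    have hinj : p * Nat.card S' ≤ Nat.card M := by
      rw [mul_comm, ← Nat.card_fin p, ← Nat.card_prod]
      refine Nat.card_le_card_of_injective (fun z : S' × Fin p =>
        (⟨(π ^ (z.2 : ℕ)) z.1, fun h => z.1.2.2 ?_⟩ : M)) fun z w h => ?_
      · rw [← Equiv.Perm.mul_apply, ← pow_succ', pow_succ, Equiv.Perm.mul_apply] at h
        exact (π ^ (z.2 : ℕ)).injective h
      · obtain ⟨⟨s, hs, hs'⟩, a⟩ := z
        obtain ⟨⟨t, ht, ht'⟩, b⟩ := w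
        have h' : (π ^ (a : ℕ)) s = (π ^ (b : ℕ)) t := congrArg Subtype.val h
        have key : ∀ {s t : ι} {a b : ℕ}, s ∈ S → a < p → (π ^ a) s = (π ^ b) t → e s ≤ e t := by
          intro s t a b hs ha h
          have : (π ^ ((p - b % p) + a)) s = t := by
            rw [pow_add, Equiv.Perm.mul_apply, h, ← hmod b, ← Equiv.Perm.mul_apply, ← pow_add,
              Nat.sub_add_cancel (Nat.mod_lt _ hp.out.pos).le, hπ, Equiv.Perm.one_apply]
          exact this ▸ hs _
        have hst : s = t := e.injective (le_antisymm (key hs a.2 h') (key ht b.2 h'.symm))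
        subst hst
        have hab : (a : ℕ) = b := by
          rcases le_total (a : ℕ) b with hle | hle
          · have h3 : (π ^ ((b : ℕ) - a)) s = s := by
              apply (π ^ (a : ℕ)).injective
              rw [← Equiv.Perm.mul_apply, ← pow_add, Nat.add_sub_cancel' hle, h']
            have := Nat.eq_zero_of_dvd_of_lt (hfree s _ hs' h3) (by omega)
            omega
          · have h3 : (π ^ ((a : ℕ) - b)) s = s := by
              apply (π ^ (b : ℕ)).injective
              rw [← Equiv.Perm.mul_apply, ← pow_add, Nat.add_sub_cancel' hle, h']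
            have := Nat.eq_zero_of_dvd_of_lt (hfree s _ hs' h3) (by omega)
            omega
        exact Prod.ext rfl (Fin.ext hab)
    calc p * Nat.card S ≤ p * (Nat.card A + Nat.card S') := Nat.mul_le_mul_left _ hS
      _ ≤ p * Nat.card A + Nat.card M := by rw [mul_add]; exact Nat.add_le_add_left hinj _
      _ = _ := by
        rw [hcard]
        obtain ⟨q, hq⟩ : ∃ q, p = q + 1 := ⟨p - 1, (Nat.sub_add_cancel hp.out.pos).symm⟩
        rw [hq, Nat.add_sub_cancel]
        ring

/-- Fixed vectors of an endomorphism that permutes jointly injective projections. -/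
theorem finrank_fixed_le {k U : Type*} [Field k] [AddCommGroup U] [Module k U] [FiniteDimensional k U]
    {ι : Type*} [Finite ι] (p : ℕ) [Fact p.Prime] (φ : U →ₗ[k] U) (π : Equiv.Perm ι) (hπ : π ^ p = 1)
    (P : ι → U →ₗ[k] U) (hP : ∀ v, (∀ i, P i v = 0) → v = 0)
    (hφ : ∀ i v, φ (P i v) = P (π i) (φ v))
    (d : ℕ) (hd : ∀ i, Module.finrank k (LinearMap.range (P i)) ≤ d) :
    p * Module.finrank k (LinearMap.ker (φ - LinearMap.id)) ≤
      d * (Nat.card ι + (p - 1) * Nat.card {i : ι // π i = i}) := by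
  classical
  obtain ⟨S, hS, hcard⟩ := exists_orbit_reps p π hπ
  haveI := Fintype.ofFinite S
  set C := LinearMap.ker (φ - LinearMap.id)
  let F : C →ₗ[k] (∀ s : S, LinearMap.range (P s)) :=
    LinearMap.pi fun s => (P s).rangeRestrict.comp C.subtype
  have hF : Function.Injective F := by
    rw [injective_iff_map_eq_zero]
    intro v hv
    have hfix : φ (v : U) = v := by
      have h := v.2
      rw [LinearMap.mem_ker, LinearMap.sub_apply, LinearMap.id_apply, sub_eq_zero] at h
      exact h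
    refine Subtype.ext (hP _ fun i => ?_)
    obtain ⟨j, s, hs, rfl⟩ := hS i
    have h0 : P s (v : U) = 0 := congrArg Subtype.val (congrFun hv ⟨s, hs⟩)
    clear hs
    induction j with
    | zero => simpa using h0
    | succ j ih => rw [pow_succ', Equiv.Perm.mul_apply, ← hfix, ← hφ, ih, map_zero]
  have h1 := LinearMap.finrank_le_finrank_of_injective hF
  rw [Module.finrank_pi_fintype] at h1
  have h2 : Module.finrank k C ≤ Nat.card S * d := by
    refine h1.trans ((Finset.sum_le_card_nsmul _ _ d fun s _ => hd _).trans ?_)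
    rw [smul_eq_mul, Finset.card_univ, Nat.card_eq_fintype_card]
  calc p * Module.finrank k C ≤ p * (Nat.card S * d) := Nat.mul_le_mul_left _ h2
    _ = d * (p * Nat.card S) := by ring
    _ ≤ _ := Nat.mul_le_mul_left _ hcard

open Subgroup

/-- The elements moving `x` into `H`. -/
def carry {G : Type u} [Group G] (x : G) (H : Subgroup G) : Set G := {g | g⁻¹ * x * g ∈ H}

/-- An element of order `p > 2` that generates a solvable group normally fixes at most a third of
the cosets of a proper subgroup. -/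
theorem card_carry_le (p : ℕ) [hp : Fact p.Prime] (hp2 : p ≠ 2) {G : Type u} [Group G] [Finite G]
    (hsol : Group.IsSolvable G) {x : G} (hxp : x ^ p = 1)
    (hgen : ∀ N : Subgroup G, N.Normal → x ∈ N → N = ⊤) {H : Subgroup G} (hH : H ≠ ⊤) :
    3 * Nat.card (carry x H) ≤ Nat.card G := by
  classical
  obtain ⟨M, hM, hHM⟩ : ∃ M : Subgroup G, IsCoatom M ∧ H ≤ M :=
    (eq_top_or_exists_le_coatom H).resolve_left hH
  have hmono : Nat.card (carry x H) ≤ Nat.card (carry x M) :=
    Nat.card_mono (Set.toFinite _) fun g hg => hHM hg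
  refine le_trans (Nat.mul_le_mul_left 3 hmono) ?_
  clear hH hmono hHM H
  -- pass to the quotient by the core
  set K := M.normalCore with hKdef
  let f := QuotientGroup.mk' K
  have hf : Function.Surjective f := QuotientGroup.mk'_surjective K
  have hKM : K ≤ M := normalCore_le M
  set H := M.map f with hHdef
  have hHM' : H.comap f = M := by
    rw [hHdef, comap_map_eq, QuotientGroup.ker_mk', sup_eq_left.mpr hKM]
  have hpre : carry x M = f ⁻¹' carry (f x) H := by
    ext g
    simp only [carry, Set.mem_preimage, Set.mem_ofPred_eq]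
    rw [← map_inv, ← map_mul, ← map_mul, ← mem_comap, hHM']
  have hcard : Nat.card (carry x M) = Nat.card K * Nat.card (carry (f x) H) := by
    rw [hpre]
    exact QuotientGroup.card_preimage_mk K _
  rw [hcard, card_eq_card_quotient_mul_card_subgroup K, mul_comm (Nat.card (G ⧸ K)), mul_left_comm]
  refine Nat.mul_le_mul_left _ ?_
  -- now the stabiliser is core-free
  have hHtop : H ≠ ⊤ := fun e => hM.1 (by rw [← hHM', e, comap_top])
  have hcore : ∀ L : Subgroup (G ⧸ K), L.Normal → L ≤ H → L = ⊥ := by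
    intro L hL hLH
    have h1 : L.comap f ≤ K :=
      normal_le_normalCore.mpr ((comap_mono hLH).trans hHM'.le)
    rw [eq_bot_iff, ← map_comap_eq_self_of_surjective hf L]
    refine (map_mono h1).trans ?_
    rw [QuotientGroup.map_mk'_self]
  set y := f x with hy
  have hyp : y ^ p = 1 := by rw [hy, ← map_pow, hxp, map_one]
  have hygen : ∀ L : Subgroup (G ⧸ K), L.Normal → y ∈ L → L = ⊤ := fun L hL hyL => by
    rw [← map_comap_eq_self_of_surjective hf L, hgen _ (hL.comap f) hyL, map_top_of_surjective f hf]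
  haveI : Nontrivial (G ⧸ K) := by
    by_contra h
    rw [not_nontrivial_iff_subsingleton] at h
    exact hHtop (Subsingleton.elim _ _)
  have hsolQ : Group.IsSolvable (G ⧸ K) := Group.isSolvable_of_surjective hf
  obtain ⟨N, hNn, -, hN, hmin⟩ := Hall.exists_minimal_normal (⊤ : Subgroup (G ⧸ K)) top_ne_bot
  haveI : Group.IsSolvable N := Group.isSolvable_of_isSolvable_injective N.subtype_injective
  have hNc : ∀ a ∈ N, ∀ b ∈ N, a * b = b * a := fun a ha b hb =>
    haveI := Hall.minimal_normal_isMulCommutative hmin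
    congrArg Subtype.val (mul_comm' (⟨a, ha⟩ : N) ⟨b, hb⟩)
  have hsup : N ⊔ H = ⊤ := by
    by_contra h
    refine hN (hcore N hNn ?_)
    have hHle : M ≤ (N ⊔ H).comap f := hHM'.ge.trans (comap_mono le_sup_right)
    rcases (hM.le_iff.mp hHle) with e | e
    · exact absurd (by rw [← map_comap_eq_self_of_surjective hf (N ⊔ H), e, map_top_of_surjective f hf]) h
    · refine le_sup_left.trans (le_of_eq ?_ : N ⊔ H ≤ H)
      rw [← map_comap_eq_self_of_surjective hf (N ⊔ H)]
      exact congrArg (Subgroup.map f) e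
  have hmem : ∀ g : G ⧸ K, ∃ n ∈ N, ∃ h ∈ H, g = n * h := fun g => by
    obtain ⟨n, hn, h, hh, e⟩ := mem_sup_of_normal_left.mp (show g ∈ N ⊔ H by rw [hsup]; exact mem_top g)
    exact ⟨n, hn, h, hh, e.symm⟩
  have hnorm : ∀ L : Subgroup (G ⧸ K), N ≤ normalizer (L : Set (G ⧸ K)) →
      H ≤ normalizer (L : Set (G ⧸ K)) → L.Normal := fun L h1 h2 => by
    rw [← normalizer_eq_top_iff, eq_top_iff, ← hsup]
    exact sup_le h1 h2
  have hNH : N ⊓ H = ⊥ := by
    refine hcore _ (hnorm _ (fun n hn => centralizer_le_normalizer _ (mem_centralizer_iff.mpr fun a ha =>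
      hNc a (mem_inf.mp ha).1 n hn)) ?_) inf_le_right
    exact le_trans (le_inf (by rw [normalizer_eq_top_iff.mpr hNn]; exact le_top) le_normalizer)
      inf_normalizer_le_normalizer_inf
  have hCN : ∀ h ∈ H, (∀ n ∈ N, h * n = n * h) → h = 1 := by
    intro h hh hc
    have hn : (centralizer (N : Set (G ⧸ K)) ⊓ H).Normal := by
      refine hnorm _ (fun n hn => centralizer_le_normalizer _ (mem_centralizer_iff.mpr fun a ha =>
        (mem_centralizer_iff.mp (mem_inf.mp ha).1 n hn).symm)) ?_
      exact le_trans (le_inf (by rw [normalizer_eq_top_iff.mpr inferInstance]; exact le_top) le_normalizer)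
        inf_normalizer_le_normalizer_inf
    exact mem_bot.mp (hcore _ hn inf_le_right ▸ mem_inf.mpr ⟨mem_centralizer_iff.mpr fun n hn =>
      (hc n hn).symm, hh⟩)
  set A := {n : N | (n : G ⧸ K)⁻¹ * y * n ∈ H}
  have hprod : Nat.card (carry y H) ≤ Nat.card A * Nat.card H := by
    rw [← Nat.card_prod]
    refine Nat.card_le_card_of_surjective (fun z : A × H => (⟨(z.1.1 : G ⧸ K) * z.2, ?_⟩ : carry y H)) ?_
    · show _ ∈ H
      have e : ((z.1.1 : G ⧸ K) * z.2)⁻¹ * y * ((z.1.1 : G ⧸ K) * z.2) =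
          (z.2 : G ⧸ K)⁻¹ * ((z.1.1 : G ⧸ K)⁻¹ * y * z.1.1) * z.2 := by group
      rw [e]
      exact mul_mem (mul_mem (inv_mem z.2.2) z.1.2) z.2.2
    · rintro ⟨g, hg⟩
      obtain ⟨n, hn, h, hh, rfl⟩ := hmem g
      refine ⟨(⟨⟨n, hn⟩, ?_⟩, ⟨h, hh⟩), rfl⟩
      show n⁻¹ * y * n ∈ H
      have e : n⁻¹ * y * n = h * ((n * h)⁻¹ * y * (n * h)) * h⁻¹ := by group
      rw [e]
      exact mul_mem (mul_mem hh hg) (inv_mem hh)
  have hGcard : Nat.card (G ⧸ K) = Nat.card N * Nat.card H := by
    rw [← Coprime.card_sup_of_disjoint (by rw [normalizer_eq_top_iff.mpr hNn]; exact le_top)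
      (disjoint_iff.mpr hNH), hsup, card_top]
  suffices h3 : 3 * Nat.card A ≤ Nat.card N by
    rw [hGcard]
    calc 3 * Nat.card (carry y H) ≤ 3 * (Nat.card A * Nat.card H) := Nat.mul_le_mul_left _ hprod
      _ = 3 * Nat.card A * Nat.card H := (mul_assoc _ _ _).symm
      _ ≤ _ := Nat.mul_le_mul_right _ h3
  rcases isEmpty_or_nonempty A with hA | ⟨⟨n0, hn0⟩⟩
  · simp
  set z := (n0 : G ⧸ K)⁻¹ * y * n0 with hz
  have hzH : z ∈ H := hn0
  have hzp : z ^ p = 1 := by
    have : z = (n0 : G ⧸ K)⁻¹ * y * ((n0 : G ⧸ K)⁻¹)⁻¹ := by rw [inv_inv]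
    rw [this, conj_pow, hyp, mul_one, mul_inv_cancel]
  set C := (N ⊓ centralizer ({z} : Set (G ⧸ K))).subgroupOf N
  have hAC : Nat.card A ≤ Nat.card C := by
    refine Nat.card_le_card_of_injective (fun n : A => (⟨n0⁻¹ * n.1, ?_⟩ : C)) fun a b h => ?_
    · refine mem_subgroupOf.mpr (mem_inf.mpr ⟨(n0⁻¹ * n.1).2, mem_centralizer_singleton_iff.mpr ?_⟩)
      set m := ((n0⁻¹ * n.1 : N) : G ⧸ K) with hm
      have hmz : m⁻¹ * z * m ∈ H := by
        have : m⁻¹ * z * m = (n.1 : G ⧸ K)⁻¹ * y * n.1 := by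
          rw [hm, hz, Subgroup.coe_mul, Subgroup.coe_inv]; group
        rw [this]; exact n.2
      have h1 : m⁻¹ * z * m * z⁻¹ ∈ N ⊓ H :=
        mem_inf.mpr ⟨by
          rw [mul_assoc, mul_assoc, ← mul_assoc z]
          exact mul_mem (inv_mem (n0⁻¹ * n.1).2) (hNn.conj_mem _ (n0⁻¹ * n.1).2 z),
          mul_mem hmz (inv_mem hzH)⟩
      rw [hNH, mem_bot, mul_inv_eq_one, mul_assoc, inv_mul_eq_iff_eq_mul] at h1
      exact h1.symm
    · exact Subtype.ext (mul_left_cancel (congrArg Subtype.val h))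
  refine le_trans (Nat.mul_le_mul_left 3 hAC) ?_
  rw [← C.card_mul_index, mul_comm 3]
  refine Nat.mul_le_mul_left _ ?_
  -- the index of the centraliser is neither one nor two
  have hz1 : z ≠ 1 := by
    intro h
    have hy1 : y = 1 := by
      rw [hz] at h
      have : y = (n0 : G ⧸ K) * ((n0 : G ⧸ K)⁻¹ * y * n0) * (n0 : G ⧸ K)⁻¹ := by group
      rw [this, h, mul_one, mul_inv_cancel]
    exact bot_ne_top (α := Subgroup (G ⧸ K)) (hygen ⊥ inferInstance (by rw [hy1]; exact one_mem _))
  have hi1 : C.index ≠ 1 := fun h => hz1 (hCN z hzH fun n hn => by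
    have := (index_eq_one.mp h).ge (mem_top (⟨n, hn⟩ : N))
    exact (mem_centralizer_singleton_iff.mp (mem_inf.mp (mem_subgroupOf.mp this)).2).symm)
  have hi2 : C.index ≠ 2 := by
    intro h
    refine hz1 (hCN z hzH fun n hn => ?_)
    by_cases hnC : (⟨n, hn⟩ : N) ∈ C
    · exact (mem_centralizer_singleton_iff.mp (mem_inf.mp (mem_subgroupOf.mp hnC)).2).symm
    have hn' : z * n * z⁻¹ ∈ N := hNn.conj_mem n hn z
    have hnC' : (⟨z * n * z⁻¹, hn'⟩ : N) ∉ C := by
      intro hc
      have hc' := mem_centralizer_singleton_iff.mp (mem_inf.mp (mem_subgroupOf.mp hc)).2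
      refine hnC (mem_subgroupOf.mpr (mem_inf.mpr ⟨hn, mem_centralizer_singleton_iff.mpr ?_⟩))
      calc n * z = z⁻¹ * ((z * n * z⁻¹) * z) * z := by group
        _ = z⁻¹ * (z * (z * n * z⁻¹)) * z := by rw [hc']
        _ = _ := by group
    have hc : (⟨n, hn⟩ : N)⁻¹ * ⟨z * n * z⁻¹, hn'⟩ ∈ C :=
      (mul_mem_iff_of_index_two h).mpr ⟨fun h' => absurd (inv_mem_iff.mp h') hnC, fun h' => absurd h' hnC'⟩
    obtain ⟨c, hc1⟩ : ∃ c, c = n⁻¹ * (z * n * z⁻¹) := ⟨_, rfl⟩
    have hcN : c ∈ N := hc1 ▸ mul_mem (inv_mem hn) hn'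
    have hzc : z * c * z⁻¹ = c := by
      have := mem_centralizer_singleton_iff.mp (mem_inf.mp (mem_subgroupOf.mp hc)).2
      simp only [Subgroup.coe_mul, Subgroup.coe_inv, ← hc1] at this
      rw [← this, mul_inv_cancel_right]
    have hzn : z * n * z⁻¹ = n * c := by rw [hc1, mul_inv_cancel_left]
    have hpow : ∀ j : ℕ, z ^ j * n * (z ^ j)⁻¹ = n * c ^ j := by
      intro j
      induction j with
      | zero => simp
      | succ j ih =>
        calc z ^ (j + 1) * n * (z ^ (j + 1))⁻¹ = z * (z ^ j * n * (z ^ j)⁻¹) * z⁻¹ := by rw [pow_succ']; group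
          _ = (z * n * z⁻¹) * (z * c * z⁻¹) ^ j := by rw [ih, conj_pow]; group
          _ = _ := by rw [hzn, hzc, mul_assoc, ← pow_succ']
    have hcp : c ^ p = 1 := by
      have := hpow p
      rw [hzp, one_mul, inv_one, mul_one] at this
      exact left_eq_mul.mp this
    have hn2 : n ^ 2 * c = (z * n * z⁻¹) * n := by rw [hzn, sq, mul_assoc n c, hNc c hcN n hn]; group
    have hsq : z * n ^ 2 * z⁻¹ = n ^ 2 := by
      have h2 : (⟨n, hn⟩ : N) ^ 2 ∈ C := sq_mem_of_index_two h _
      have := mem_centralizer_singleton_iff.mp (mem_inf.mp (mem_subgroupOf.mp h2)).2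
      simp only [SubmonoidClass.coe_pow] at this
      rw [← this, mul_inv_cancel_right]
    have hc2 : c ^ 2 = 1 := by
      rw [← conj_pow, hzn, (show Commute n c from hNc n hn c hcN).mul_pow] at hsq
      exact mul_eq_left.mp hsq
    have : orderOf c ∣ Nat.gcd p 2 :=
      Nat.dvd_gcd (orderOf_dvd_of_pow_eq_one hcp) (orderOf_dvd_of_pow_eq_one hc2)
    rw [(Nat.coprime_primes hp.out Nat.prime_two).mpr hp2, Nat.dvd_one, orderOf_eq_one_iff] at this
    rw [this, mul_one] at hzn
    exact mul_inv_eq_iff_eq_mul.mp hzn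
  have := C.index_ne_zero_of_finite
  omega

end Cfsg.Agent.LocalFlavell.HalfFixed
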