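import Cfsg.Agent.LocalFlavell.HalfFixed.Endo
import Cfsg.Agent.LocalFlavell.HalfFixed.Counting

/-!
The case in which the centre acts by scalars and contains every abelian normal subgroup.
-/

set_option autoImplicit false
set_option linter.style.haveILetI false
set_option linter.unusedSectionVars false

namespace Cfsg.Agent.LocalFlavell.HalfFixed

universe u v w

open scoped commutatorElement

/-- The bound for all groups smaller than a given order, in finite characteristic `r` fields of prime order. -/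
def SmallerHalf (p n : ℕ) : Prop :=
  ∀ (H : Type u) [Group H] [Finite H], Nat.card H < n → Group.IsSolvable H →
    ∀ (r : ℕ) [Fact r.Prime] (U : Type u) [AddCommGroup U] [Module (ZMod r) U] [Finite U]
      (σ : Representation (ZMod r) H U) (y : H), Setup p y σ → Nontrivial U → Half σ y

theorem arith {p r D e : ℕ} (hp : 5 ≤ p) (hpp : p.Prime) (hr : r.Prime) (hD : 2 ≤ D) (he : 2 * e < D)
    (hdvd : p ∣ r ^ D - r ^ e) : 4 * (r ^ D + (p - 1) * r ^ e) ≤ p * r ^ D := by
  obtain ⟨d, rfl⟩ := Nat.exists_eq_add_of_le (show e ≤ D by omega)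
  obtain ⟨q, rfl⟩ : ∃ q, p = q + 5 := ⟨p - 5, by omega⟩
  rw [show q + 5 - 1 = q + 4 by omega]
  have h16 : 16 ≤ r ^ d → 4 * (r ^ (e + d) + (q + 4) * r ^ e) ≤ (q + 5) * r ^ (e + d) := by
    intro h
    have h1 : 16 * r ^ e ≤ r ^ (e + d) := by rw [pow_add, mul_comm (r ^ e)]; exact Nat.mul_le_mul_right _ h
    nlinarith [Nat.mul_le_mul_left (q + 1) h1, Nat.zero_le (r ^ e), Nat.zero_le (q * r ^ e)]
  rcases (show r = 2 ∨ r = 3 ∨ 4 ≤ r by have := hr.two_le; omega) with rfl | rfl | hr4
  · by_cases hd : 4 ≤ d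
    · exact h16 (le_trans (by norm_num) (Nat.pow_le_pow_right (by norm_num) hd))
    have h7 : q + 5 = 7 := by
      have key : q + 5 ∣ 2 * 2 * 3 * 7 := by
        refine hdvd.trans ?_
        rcases (show d = 0 ∨ d = 1 ∨ d = 2 ∨ d = 3 by omega) with rfl | rfl | rfl | rfl <;>
          (have : e < 4 := by omega) <;> interval_cases e <;> norm_num at *
      rcases (hpp.dvd_mul).mp key with h | h
      · rcases (hpp.dvd_mul).mp h with h | h
        · rcases (hpp.dvd_mul).mp h with h | h <;> exact absurd (Nat.le_of_dvd (by norm_num) h) (by omega)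
        · exact absurd (Nat.le_of_dvd (by norm_num) h) (by omega)
      · exact (Nat.prime_dvd_prime_iff_eq hpp (by norm_num)).mp h
    obtain rfl : q = 2 := by omega
    rcases (show d = 0 ∨ d = 1 ∨ d = 2 ∨ d = 3 by omega) with rfl | rfl | rfl | rfl <;>
      (have : e < 4 := by omega) <;> interval_cases e <;> norm_num at *
  · by_cases hd : 3 ≤ d
    · exact h16 (le_trans (by norm_num) (Nat.pow_le_pow_right (by norm_num) hd))
    exfalso
    have key : q + 5 ∣ 2 * 2 * 2 * 3 := by
      refine hdvd.trans ?_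
      rcases (show d = 0 ∨ d = 1 ∨ d = 2 by omega) with rfl | rfl | rfl <;> (have : e < 3 := by omega) <;> interval_cases e <;> norm_num at *
    rcases (hpp.dvd_mul).mp key with h | h
    · rcases (hpp.dvd_mul).mp h with h | h
      · rcases (hpp.dvd_mul).mp h with h | h <;> exact absurd (Nat.le_of_dvd (by norm_num) h) (by omega)
      · exact absurd (Nat.le_of_dvd (by norm_num) h) (by omega)
    · exact absurd (Nat.le_of_dvd (by norm_num) h) (by omega)
  · exact h16 (le_trans (by norm_num) ((Nat.pow_le_pow_left hr4 2).trans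
      (Nat.pow_le_pow_right (by omega) (show 2 ≤ d by omega))))

variable {G : Type u} [Group G] [Finite G] {k : Type v} [Field k] {V : Type w} [AddCommGroup V]
  [Module k V] [FiniteDimensional k V] {p : ℕ} [hpF : Fact p.Prime] {x : G} {ρ : Representation k G V}

theorem half_of_central (IH : SmallerHalf.{u} p (Nat.card G)) (hsol : Group.IsSolvable G)
    (S : Setup p x ρ) (hV : Nontrivial V)
    (hscal : ∀ z ∈ Subgroup.center G, ∃ c : k, ρ z = c • (1 : Module.End k V))
    (hab : ∀ A : Subgroup G, A.Normal → IsMulCommutative A → A ≤ Subgroup.center G) : Half ρ x := by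
  classical
  have hp5 : 5 ≤ p := by
    have := S.hp
    by_contra h
    have h4 : p = 4 := by omega
    exact absurd (h4 ▸ hpF.out) (by norm_num)
  have hn0 : 0 < Module.finrank k V := Module.finrank_pos
  have hxne : ρ x ≠ 1 := fun h => S.ne (S.faithful (h.trans (map_one ρ).symm))
  by_cases hcomm : Subgroup.center G = ⊤
  · have hinv : ∀ g : G, ∀ v ∈ fixed ρ x, ρ g v ∈ fixed ρ x := by
      intro g v hv
      rw [mem_fixed] at hv ⊢
      rw [← Module.End.mul_apply, ← map_mul,
        show x * g = g * x from Subgroup.mem_center_iff.mp (hcomm.ge (Subgroup.mem_top g)) x,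
        map_mul, Module.End.mul_apply, hv]
    rcases S.irr _ hinv with h | h
    · show 2 * Module.finrank k (fixed ρ x) < _
      rw [h, finrank_bot]
      omega
    · exact absurd (LinearMap.ext fun v => mem_fixed.mp (h.ge Submodule.mem_top)) hxne
  -- a minimal normal subgroup modulo the centre
  set Z := Subgroup.center G with hZ
  let f := QuotientGroup.mk' Z
  have hfs : Function.Surjective f := QuotientGroup.mk'_surjective Z
  have hfZ : ∀ g : G, f g = 1 ↔ g ∈ Z := fun g => QuotientGroup.eq_one_iff g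
  have hsolQ : Group.IsSolvable (G ⧸ Z) := Group.isSolvable_of_surjective hfs
  have htop : (⊤ : Subgroup (G ⧸ Z)) ≠ ⊥ := by
    intro h
    refine hcomm (top_le_iff.mp fun g _ => (hfZ g).mp ?_)
    exact Subgroup.mem_bot.mp (h.le (Subgroup.mem_top (f g)))
  obtain ⟨W, hWn, -, hW, hmin⟩ := Hall.exists_minimal_normal (⊤ : Subgroup (G ⧸ Z)) htop
  haveI : Group.IsSolvable W := Group.isSolvable_of_isSolvable_injective W.subtype_injective
  obtain ⟨r, hr, -, -, hWc, hWr⟩ := Hall.minimal_normal_isElementaryAbelian hW hmin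
  haveI : Fact r.Prime := ⟨hr⟩
  letI : CommGroup W := { (inferInstance : Group W) with mul_comm := fun a b => hWc.is_comm.comm a b }
  haveI := Fintype.ofFinite W
  choose t ht using fun u : W => hfs (u : G ⧸ Z)
  choose! lam hlam using hscal
  obtain ⟨v₀, hv₀⟩ := exists_ne (0 : V)
  have hsmul : ∀ a b : k, a • (1 : Module.End k V) = b • (1 : Module.End k V) → a = b := by
    intro a b h
    have h2 := LinearMap.congr_fun h v₀
    simp only [LinearMap.smul_apply, Module.End.one_apply] at h2
    exact smul_left_injective k hv₀ h2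
  have hlam1 : lam 1 = 1 := hsmul _ _ (by rw [← hlam 1 (one_mem _), map_one, one_smul])
  have hlam_mul : ∀ a ∈ Z, ∀ b ∈ Z, lam (a * b) = lam a * lam b := fun a ha b hb => hsmul _ _ (by
    rw [← hlam _ (mul_mem ha hb), map_mul, hlam a ha, hlam b hb, smul_mul_assoc, one_mul, smul_smul])
  have hlam0 : ∀ a ∈ Z, lam a ≠ 0 := fun a ha h => by
    have h2 := hlam_mul a ha a⁻¹ (inv_mem ha)
    rw [mul_inv_cancel, hlam1, h, zero_mul] at h2
    exact one_ne_zero h2
  have hlam_inj : ∀ a ∈ Z, lam a = 1 → a = 1 := fun a ha h => S.faithful (by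
    rw [hlam a ha, h, one_smul, map_one])
  have hcjZ : ∀ z ∈ Z, ∀ F : Module.End k V, cj ρ z F = F := fun z hz F => by
    rw [cj_eq_iff, hlam z hz, smul_mul_assoc, one_mul, mul_smul_comm, mul_one]
  have hcjeq : ∀ a b : G, f a = f b → ∀ F, cj ρ a F = cj ρ b F := fun a b h F => by
    have hz : b⁻¹ * a ∈ Z := (hfZ _).mp (by rw [map_mul, map_inv, h, inv_mul_cancel])
    conv_lhs => rw [show a = b * (b⁻¹ * a) by group, ← cj_cj, hcjZ _ hz]
  have hkey : ∀ a b : G, f a ∈ W → f b ∈ W → ⁅a, b⁆ ∈ Z := fun a b ha hb => by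
    rw [← hfZ, map_commutatorElement, commutatorElement_eq_one_iff_mul_comm]
    exact congrArg Subtype.val (mul_comm (⟨f a, ha⟩ : W) ⟨f b, hb⟩)
  have htW : ∀ u : W, f (t u) ∈ W := fun u => by rw [ht]; exact u.2
  let β : W → W → k := fun u w => lam ⁅t u, t w⁆
  -- the commutator only depends on the images
  have hbr : ∀ a b a' b' : G, f a = f a' → f b = f b' → ⁅a, b⁆ = ⁅a', b'⁆ := by
    intro a b a' b' ha hb
    obtain ⟨z, hz, rfl⟩ : ∃ z ∈ Z, a = a' * z := ⟨a'⁻¹ * a,
      (hfZ _).mp (by rw [map_mul, map_inv, ha, inv_mul_cancel]), by group⟩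
    obtain ⟨z', hz', rfl⟩ : ∃ z ∈ Z, b = b' * z := ⟨b'⁻¹ * b,
      (hfZ _).mp (by rw [map_mul, map_inv, hb, inv_mul_cancel]), by group⟩
    have c1 := Subgroup.mem_center_iff.mp hz
    have c2 := Subgroup.mem_center_iff.mp hz'
    rw [commutatorElement_def, commutatorElement_def, mul_inv_rev, mul_inv_rev]
    calc a' * z * (b' * z') * (z⁻¹ * a'⁻¹) * (z'⁻¹ * b'⁻¹)
        = a' * (b' * z') * z * (z⁻¹ * a'⁻¹) * (z'⁻¹ * b'⁻¹) := by rw [mul_assoc a' z, ← c1]; group
      _ = a' * b' * (z' * a'⁻¹) * (z'⁻¹ * b'⁻¹) := by group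
      _ = a' * b' * (a'⁻¹ * z') * (z'⁻¹ * b'⁻¹) := by rw [← c2 a'⁻¹]
      _ = _ := by group
  have hleft : ∀ a a' b : G, f a ∈ W → f a' ∈ W → f b ∈ W → ⁅a * a', b⁆ = ⁅a, b⁆ * ⁅a', b⁆ := by
    intro a a' b ha ha' hb
    have h1 := Subgroup.mem_center_iff.mp (hkey a' b ha' hb)
    calc ⁅a * a', b⁆ = a * ⁅a', b⁆ * a⁻¹ * ⁅a, b⁆ := by simp only [commutatorElement_def]; group
      _ = ⁅a', b⁆ * ⁅a, b⁆ := by rw [h1 a, mul_inv_cancel_right]
      _ = _ := (h1 _).symm
  have hright : ∀ a b b' : G, f a ∈ W → f b ∈ W → f b' ∈ W → ⁅a, b * b'⁆ = ⁅a, b⁆ * ⁅a, b'⁆ := by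
    intro a b b' ha hb hb'
    have h1 := Subgroup.mem_center_iff.mp (hkey a b' ha hb')
    calc ⁅a, b * b'⁆ = ⁅a, b⁆ * (b * ⁅a, b'⁆ * b⁻¹) := by simp only [commutatorElement_def]; group
      _ = _ := by rw [h1 b, mul_inv_cancel_right]
  have hnd : ∀ u : W, (∀ w : W, β u w = 1) → u = 1 := by
    intro u hu
    let M := W.comap f
    have hc : ∀ b ∈ M, t u * b = b * t u := by
      intro b hb
      have h1 : ⁅t u, b⁆ = ⁅t u, t ⟨f b, hb⟩⁆ := hbr _ _ _ _ rfl (ht ⟨f b, hb⟩).symm
      have h2 := hlam_inj _ (hkey _ _ (htW u) (htW ⟨f b, hb⟩)) (hu ⟨f b, hb⟩)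
      rw [← h1, commutatorElement_eq_one_iff_mul_comm] at h2
      exact h2
    let B : Subgroup G := M ⊓ Subgroup.centralizer (M : Set G)
    haveI : M.Normal := hWn.comap f
    have hBn : B.Normal := inferInstanceAs (M ⊓ Subgroup.centralizer (M : Set G)).Normal
    have hBc : IsMulCommutative B := ⟨⟨fun a b => Subtype.ext
      (Subgroup.mem_centralizer_iff.mp (Subgroup.mem_inf.mp b.2).2 a (Subgroup.mem_inf.mp a.2).1)⟩⟩
    have h3 : t u ∈ Z := hab B hBn hBc (Subgroup.mem_inf.mpr ⟨htW u,
      Subgroup.mem_centralizer_iff.mpr fun b hb => (hc b hb).symm⟩)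
    exact Subtype.ext ((ht u).symm.trans ((hfZ _).mpr h3))
  have hβne : ∀ u w, β u w ≠ 0 := fun u w => hlam0 _ (hkey _ _ (htW u) (htW w))
  have hβl : ∀ u v w, β (u * v) w = β u w * β v w := fun u v w => by
    show lam ⁅t (u * v), t w⁆ = _
    rw [hbr _ _ (t u * t v) (t w) (by rw [map_mul, ht, ht, ht]; rfl) rfl,
      hleft _ _ _ (htW u) (htW v) (htW w), hlam_mul _ (hkey _ _ (htW u) (htW w)) _ (hkey _ _ (htW v) (htW w))]
  have hβr : ∀ u v w, β u (v * w) = β u v * β u w := fun u v w => by
    show lam ⁅t u, t (v * w)⁆ = _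
    rw [hbr _ _ (t u) (t v * t w) rfl (by rw [map_mul, ht, ht, ht]; rfl),
      hright _ _ _ (htW u) (htW v) (htW w), hlam_mul _ (hkey _ _ (htW u) (htW v)) _ (hkey _ _ (htW u) (htW w))]
  have hswap : ∀ u w, β u w * β w u = 1 := fun u w => by
    rw [← hlam_mul _ (hkey _ _ (htW u) (htW w)) _ (hkey _ _ (htW w) (htW u)),
      ← commutatorElement_inv (t u) (t w), mul_inv_cancel, hlam1]
  have hβone : ∀ w, β 1 w = 1 := fun w => by
    have h := hβl 1 1 w
    rw [mul_one] at h
    exact (mul_eq_left₀ (hβne 1 w)).mp h.symm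
  have hWr' : ∀ u : W, u ^ r = 1 := fun u => Subtype.ext (by
    rw [SubmonoidClass.coe_pow, OneMemClass.coe_one]
    exact hWr u u.2)
  obtain ⟨u₁, hu₁⟩ : ∃ u : W, u ≠ 1 := by
    haveI := W.nontrivial_iff_ne_bot.mpr hW
    exact exists_ne 1
  obtain ⟨w₁, hw₁⟩ : ∃ w, β u₁ w ≠ 1 := by
    by_contra h
    push Not at h
    exact hu₁ (hnd u₁ h)
  have hβr1 : ∀ u w, β u w ^ r = 1 := fun u w => by
    have : ∀ j, β (u ^ j) w = β u w ^ j := fun j => by
      induction j with
      | zero => rw [pow_zero, pow_zero, hβone]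
      | succ j ih => rw [pow_succ, pow_succ, hβl, ih]
    rw [← this, hWr', hβone]
  have hrk : (r : k) ≠ 0 := by
    intro h0
    haveI : CharP k r := (CharP.charP_iff_prime_eq_zero hr).mpr h0
    exact hw₁ (frobenius_inj k r (by rw [frobenius_def, frobenius_def, one_pow, hβr1]))
  obtain ⟨D, hD⟩ : ∃ D, Nat.card W = r ^ D :=
    IsPGroup.iff_card.mp fun u => ⟨1, by rw [pow_one]; exact hWr' u⟩
  have hcardk : (Fintype.card W : k) ≠ 0 := by
    rw [← Nat.card_eq_fintype_card, hD, Nat.cast_pow]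
    exact pow_ne_zero _ hrk
  have Q : Pairing ρ t β :=
    { cj_mul := fun u v F => by
        rw [cj_cj]
        exact hcjeq _ _ (by rw [map_mul, ht, ht, ht]; rfl) F
      cj_t := fun u w => by
        rw [cj_rho, show t u * t w * (t u)⁻¹ = ⁅t u, t w⁆ * t w by rw [commutatorElement_def]; group,
          map_mul, hlam _ (hkey _ _ (htW u) (htW w)), smul_mul_assoc, one_mul]
      mul_left := hβl
      mul_right := hβr
      ndl := fun u hu => by
        by_contra h
        push Not at h
        exact hu (hnd u h)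
      ndr := fun w hw => by
        by_contra h
        push Not at h
        refine hw (hnd w fun u => ?_)
        have h2 := hswap u w
        rwa [h u, one_mul] at h2
      ne_zero := hβne
      one_cj := fun F => hcjZ _ ((hfZ _).mp (ht 1)) F
      card_ne := hcardk }
  -- the action on the section
  let act : (G ⧸ Z) →* (W ≃* W) :=
    { toFun := fun q =>
        { toFun := fun u => ⟨q * u * q⁻¹, hWn.conj_mem _ u.2 q⟩
          invFun := fun u => ⟨q⁻¹ * u * q⁻¹⁻¹, hWn.conj_mem _ u.2 q⁻¹⟩
          left_inv := fun u => Subtype.ext (by simp [mul_assoc])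
          right_inv := fun u => Subtype.ext (by simp [mul_assoc])
          map_mul' := fun u v => Subtype.ext (by simp [mul_assoc]) }
      map_one' := MulEquiv.ext fun u => Subtype.ext (by simp)
      map_mul' := fun a b => MulEquiv.ext fun u => Subtype.ext (by simp [mul_assoc]) }
  have hact : ∀ (g : G) (u : W), ((act (f g) u : W) : G ⧸ Z) = f g * u * (f g)⁻¹ := fun g u => rfl
  let π : Equiv.Perm W := (act (f x)).toEquiv
  have hπpow : ∀ (j : ℕ) (u : W), (π ^ j) u = act (f (x ^ j)) u := by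
    intro j
    induction j with
    | zero => intro u; simp
    | succ j ih =>
      intro u
      rw [pow_succ', Equiv.Perm.mul_apply, ih, pow_succ', map_mul, map_mul]
      rfl
  have hπ : π ^ p = 1 := Equiv.ext fun u => by rw [hπpow, S.xp, map_one, map_one]; rfl
  have hπt : ∀ u : W, f (t (π u)) = f (x * t u * x⁻¹) := fun u => by
    rw [map_mul, map_mul, map_inv, ht, ht]; rfl
  have hsq := sq_fixed_le Q π hπ
    (fun u F => by
      rw [cj_cj, cj_cj]
      refine hcjeq _ _ ?_ F
      rw [map_mul, map_mul, hπt, ← map_mul]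
      simp)
    (fun u w => by
      show lam ⁅t (π u), t (π w)⁆ = lam ⁅t u, t w⁆
      rw [hbr _ _ _ _ (hπt u) (hπt w)]
      congr 1
      have h1 := Subgroup.mem_center_iff.mp (hkey _ _ (htW u) (htW w)) x
      calc ⁅x * t u * x⁻¹, x * t w * x⁻¹⁆ = x * ⁅t u, t w⁆ * x⁻¹ := by
            simp only [commutatorElement_def]; group
        _ = _ := by rw [h1, mul_inv_cancel_right]) hxne
  -- the induced module
  have hWadd : ∀ a : Additive W, r • a = 0 := fun a => hWr' a.toMul
  letI : Module (ZMod r) (Additive W) := AddCommGroup.zmodModule hWadd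
  have _hmod : Module (ZMod r) (Additive W) := inferInstance
  let A : G ⧸ Z → Module.End (ZMod r) (Additive W) := fun q =>
    (MonoidHom.toAdditive (act q).toMonoidHom).toZModLinearMap r
  have hA1 : A 1 = 1 := LinearMap.ext fun a => by
    show Additive.ofMul ((act 1) a.toMul) = a
    rw [map_one]; rfl
  have hA2 : ∀ q q', A (q * q') = A q * A q' := fun q q' => LinearMap.ext fun a => by
    show Additive.ofMul ((act (q * q')) a.toMul) = Additive.ofMul ((act q) ((act q') a.toMul))
    rw [map_mul]; rfl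
  let σ₀ : Representation (ZMod r) (G ⧸ Z) (Additive W) :=
    { toFun := A
      map_one' := hA1
      map_mul' := hA2 }
  let H := (G ⧸ Z) ⧸ σ₀.ker
  let σ : Representation (ZMod r) H (Additive W) := QuotientGroup.lift σ₀.ker σ₀ le_rfl
  let y : H := QuotientGroup.mk' σ₀.ker (f x)
  have hσ : ∀ q, σ (QuotientGroup.mk' σ₀.ker q) = σ₀ q := fun q => rfl
  have hnofix : ¬ ∀ (g : G) (u : W), act (f g) u = u := by
    intro h
    -- the section would be cyclic
    have hz : (Subgroup.zpowers (u₁ : G ⧸ Z)).Normal := ⟨fun q hq g => by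
      obtain ⟨i, rfl⟩ := Subgroup.mem_zpowers_iff.mp hq
      obtain ⟨g, rfl⟩ := hfs g
      rw [← conj_zpow, ← hact, h g u₁]
      exact Subgroup.zpow_mem_zpowers _ _⟩
    have hW1 : Subgroup.zpowers (u₁ : G ⧸ Z) = W := (hmin _ hz (Subgroup.zpowers_le.mpr u₁.2)).resolve_left
      fun e => hu₁ (Subtype.ext (Subgroup.mem_bot.mp (e.le (Subgroup.mem_zpowers _))))
    obtain ⟨i, hi⟩ := Subgroup.mem_zpowers_iff.mp (hW1.ge w₁.2)
    refine hw₁ ?_
    show lam ⁅t u₁, t w₁⁆ = 1
    rw [hbr _ _ (t u₁) (t u₁ ^ i) rfl (by rw [map_zpow, ht, ht, hi]),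
      commutatorElement_eq_one_iff_commute.mpr (Commute.self_zpow _ i), hlam1]
  have hσ₀ : ∀ q, σ₀ q = 1 ↔ ∀ u : W, act q u = u := fun q => by
    constructor
    · intro h u
      have h1 := LinearMap.congr_fun h (Additive.ofMul u)
      rw [Module.End.one_apply] at h1
      exact congrArg Additive.toMul h1
    · intro h
      refine LinearMap.ext fun a => ?_
      rw [Module.End.one_apply]
      show Additive.ofMul ((act q) a.toMul) = a
      rw [h]; rfl
  have hkertop : σ₀.ker ≠ ⊤ := fun h => hnofix fun g => (hσ₀ _).mp (h.ge (Subgroup.mem_top (f g)))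
  have hcardlt : Nat.card H < Nat.card G := by
    have h1 : Nat.card H ≤ Nat.card (G ⧸ Z) :=
      Nat.card_le_card_of_surjective _ (QuotientGroup.mk'_surjective σ₀.ker)
    have hZ1 : Z ≠ ⊥ := by
      intro h
      have hz := hkey (t u₁) (t w₁) (htW u₁) (htW w₁)
      rw [h, Subgroup.mem_bot] at hz
      exact hw₁ (by show lam ⁅t u₁, t w₁⁆ = 1; rw [hz, hlam1])
    refine lt_of_le_of_lt h1 ?_
    rw [Subgroup.card_eq_card_quotient_mul_card_subgroup Z]
    exact lt_mul_of_one_lt_right Nat.card_pos (Z.one_lt_card_iff_ne_bot.mpr hZ1)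
  have hgenH : ∀ N : Subgroup H, N.Normal → y ∈ N → N = ⊤ := fun N hN hy => by
    have hs : Function.Surjective ((QuotientGroup.mk' σ₀.ker).comp f) :=
      (QuotientGroup.mk'_surjective _).comp hfs
    rw [← Subgroup.map_comap_eq_self_of_surjective hs N, S.gen _ (hN.comap ((QuotientGroup.mk' σ₀.ker).comp f)) (show x ∈ N.comap ((QuotientGroup.mk' σ₀.ker).comp f) from hy),
      Subgroup.map_top_of_surjective _ hs]
  haveI : Nontrivial W := W.nontrivial_iff_ne_bot.mpr hW
  have hU : Setup p y σ :=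
    { hp := S.hp
      xp := by show (QuotientGroup.mk' σ₀.ker (f x)) ^ p = 1; rw [← map_pow, ← map_pow, S.xp, map_one, map_one]
      gen := hgenH
      faithful := by
        rw [injective_iff_map_eq_one]
        intro q hq
        obtain ⟨q, rfl⟩ := QuotientGroup.mk'_surjective σ₀.ker q
        exact (QuotientGroup.eq_one_iff q).mpr hq
      irr := fun U hU => by
        let N : Subgroup (G ⧸ Z) := (AddSubgroup.toSubgroup' U.toAddSubgroup).map W.subtype
        have hN : N.Normal := ⟨fun q hq g => by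
          obtain ⟨u, hu, rfl⟩ := hq
          obtain ⟨g, rfl⟩ := hfs g
          exact ⟨act (f g) u, hU (QuotientGroup.mk' σ₀.ker (f g)) (Additive.ofMul u) hu, rfl⟩⟩
        rcases hmin N hN (Subgroup.map_subtype_le _) with h | h
        · refine Or.inl (le_bot_iff.mp fun a ha => ?_)
          have : ((a.toMul : W) : G ⧸ Z) ∈ N := ⟨a.toMul, ha, rfl⟩
          rw [h, Subgroup.mem_bot] at this
          rw [Submodule.mem_bot]
          exact congrArg Additive.ofMul (Subtype.ext this : a.toMul = 1)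
        · refine Or.inr (top_le_iff.mp fun a _ => ?_)
          obtain ⟨u, hu, hua⟩ := h.ge a.toMul.2
          rwa [show a = Additive.ofMul u from congrArg Additive.ofMul (Subtype.ext hua.symm : a.toMul = u)]
      ne := fun h => hkertop (by
        have hmem : f x ∈ σ₀.ker := (QuotientGroup.eq_one_iff (f x)).mp h
        have := S.gen _ (Subgroup.Normal.comap inferInstance f) (show x ∈ σ₀.ker.comap f from hmem)
        rw [← Subgroup.map_comap_eq_self_of_surjective hfs σ₀.ker, this,
          Subgroup.map_top_of_surjective _ hfs]) }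
  have hhalf := IH H hcardlt (Group.isSolvable_of_surjective (QuotientGroup.mk'_surjective _)) r
    (Additive W) σ y hU inferInstance
  set D' := Module.finrank (ZMod r) (Additive W)
  obtain ⟨e, he⟩ : ∃ e, e = Module.finrank (ZMod r) (fixed σ y) := ⟨_, rfl⟩
  rw [Half, ← he] at hhalf
  have hcW : Fintype.card W = r ^ D' := by
    rw [← Nat.card_eq_fintype_card, ← Nat.card_zmod r, ← Module.natCard_eq_pow_finrank]
    exact Nat.card_congr Additive.ofMul
  have hcf : Nat.card {u : W // π u = u} = r ^ e := by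
    refine Eq.trans ?_ ((Module.natCard_eq_pow_finrank (K := ZMod r) (V := fixed σ y)).trans (by rw [Nat.card_zmod, he]))
    exact Nat.card_congr (Equiv.subtypeEquiv Additive.ofMul fun u => by
      rw [mem_fixed]
      exact ⟨fun h => congrArg Additive.ofMul h, fun h => congrArg Additive.toMul h⟩)
  have hD2 : 2 ≤ D' := by
    by_contra hD'
    -- the pairing of a cyclic section is trivial
    have h1 : Nat.card (Subgroup.zpowers u₁) = r := by
      rw [Nat.card_zpowers, orderOf_eq_prime (hWr' u₁) hu₁]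
    have hle : Fintype.card W ≤ r := hcW ▸ (Nat.pow_le_pow_right hr.pos (show D' ≤ 1 by omega)).trans (pow_one r).le
    have htop' : Subgroup.zpowers u₁ = ⊤ := Subgroup.eq_top_of_le_card _ (by
      rw [h1, Nat.card_eq_fintype_card]; exact hle)
    obtain ⟨i, hi⟩ := Subgroup.mem_zpowers_iff.mp (htop'.ge (Subgroup.mem_top w₁))
    refine hw₁ ?_
    show lam ⁅t u₁, t w₁⁆ = 1
    rw [hbr _ _ (t u₁) (t u₁ ^ i) rfl (by rw [map_zpow, ht, ht, ← hi]; rfl),
      commutatorElement_eq_one_iff_commute.mpr (Commute.self_zpow _ i), hlam1]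
  have hdvd : p ∣ r ^ D' - r ^ e := by
    have h1 := Equiv.Perm.card_compl_support_modEq (p := p) (n := 1) (σ := π) (by rwa [pow_one])
    have h2 : (Finset.univ \ π.support).card = Nat.card {u : W // π u = u} := by
      rw [Nat.card_eq_fintype_card, Fintype.card_subtype]
      congr 1
      ext u
      simp
    rw [Finset.compl_eq_univ_sdiff, h2, hcf, hcW] at h1
    exact (Nat.modEq_iff_dvd' (Nat.pow_le_pow_right hr.pos (by
      have hh : 2 * e < D' := hhalf
      omega))).mp h1
  have har := arith hp5 hpF.out hr hD2 hhalf hdvd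
  rw [hcW, hcf] at hsq
  have hsqn := card_mul_finrank Q
  rw [hcW] at hsqn
  set c := Module.finrank k (fixed ρ x)
  set n := Module.finrank k V
  set b := Module.finrank k (eig ρ t β 1)
  show 2 * c < n
  have h4 : p * (4 * (c * c + 1)) ≤ p * (n * n) := by
    calc p * (4 * (c * c + 1)) = 4 * (p * (c * c + 1)) := by ring
      _ ≤ 4 * (b * (r ^ D' + (p - 1) * r ^ e)) := Nat.mul_le_mul_left _ hsq
      _ = b * (4 * (r ^ D' + (p - 1) * r ^ e)) := by ring
      _ ≤ b * (p * r ^ D') := Nat.mul_le_mul_left _ har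
      _ = _ := by rw [hsqn]; ring
  have h5 := Nat.le_of_mul_le_mul_left h4 (by omega)
  nlinarith

end Cfsg.Agent.LocalFlavell.HalfFixed
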