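import Cfsg.Agent.LocalFlavell.HalfFixed.Setup

/-!
Endomorphisms split into eigenspaces of an elementary abelian section acting through a nondegenerate
pairing; this bounds the endomorphisms fixed by an element permuting the section.
-/

set_option autoImplicit false
set_option linter.unusedSectionVars false
set_option linter.style.haveILetI false

namespace Cfsg.Agent.LocalFlavell.HalfFixed

universe u v w

variable {G : Type u} [Group G] {k : Type v} [Field k] {V : Type w} [AddCommGroup V] [Module k V]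
  [FiniteDimensional k V] (ρ : Representation k G V) {W : Type*} [CommGroup W] [Fintype W]

/-- A section of `G` acting diagonally on endomorphisms with nondegenerate pairing. -/
structure Pairing (t : W → G) (β : W → W → k) : Prop where
  cj_mul : ∀ u v f, cj ρ (t u) (cj ρ (t v) f) = cj ρ (t (u * v)) f
  cj_t : ∀ u w, cj ρ (t u) (ρ (t w)) = β u w • ρ (t w)
  mul_left : ∀ u v w, β (u * v) w = β u w * β v w
  mul_right : ∀ u v w, β u (v * w) = β u v * β u w
  ndl : ∀ u, u ≠ 1 → ∃ w, β u w ≠ 1
  ndr : ∀ w, w ≠ 1 → ∃ u, β u w ≠ 1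
  ne_zero : ∀ u w, β u w ≠ 0
  one_cj : ∀ f, cj ρ (t 1) f = f
  card_ne : (Fintype.card W : k) ≠ 0

/-- A common eigenspace. -/
def eig (t : W → G) (β : W → W → k) (w : W) : Submodule k (Module.End k V) where
  carrier := {f | ∀ u, cj ρ (t u) f = β u w • f}
  zero_mem' := fun u => by rw [map_zero, smul_zero]
  add_mem' := fun ha hb u => by rw [map_add, ha u, hb u, smul_add]
  smul_mem' := fun c f hf u => by rw [map_smul, hf u, smul_comm]

/-- The unnormalised projection to a common eigenspace. -/
noncomputable def proj (t : W → G) (β : W → W → k) (w : W) : Module.End k V →ₗ[k] Module.End k V :=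
  ∑ u, (β u w)⁻¹ • (cj ρ (t u)).toLinearMap

variable {ρ} {t : W → G} {β : W → W → k} (Q : Pairing ρ t β)

theorem proj_apply (w : W) (f : Module.End k V) :
    proj ρ t β w f = ∑ u, (β u w)⁻¹ • cj ρ (t u) f := by
  simp [proj, LinearMap.sum_apply]

include Q

theorem one_left (w : W) : β 1 w = 1 := by
  have h := Q.mul_left 1 1 w
  rw [mul_one] at h
  exact (mul_eq_left₀ (Q.ne_zero 1 w)).mp h.symm

theorem inv_left (u w : W) : (β u w)⁻¹ = β u⁻¹ w := by
  refine inv_eq_of_mul_eq_one_right ?_
  rw [← Q.mul_left, mul_inv_cancel, one_left Q]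

theorem proj_mem (w : W) (f : Module.End k V) : proj ρ t β w f ∈ eig ρ t β w := by
  intro v
  rw [proj_apply, map_sum, Finset.smul_sum]
  refine Fintype.sum_equiv (Equiv.mulLeft v) _ _ fun u => ?_
  rw [map_smul, Q.cj_mul, Equiv.coe_mulLeft, smul_smul]
  congr 1
  rw [Q.mul_left, mul_inv, ← mul_assoc, mul_inv_cancel₀ (Q.ne_zero v w), one_mul]

theorem sum_right {u : W} (hu : u ≠ 1) : ∑ w, β u w = 0 := by
  obtain ⟨w₀, hw₀⟩ := Q.ndl u hu
  have h : β u w₀ * ∑ w, β u w = ∑ w, β u w := by
    rw [Finset.mul_sum]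
    exact Fintype.sum_equiv (Equiv.mulLeft w₀) _ _ fun w => (Q.mul_right u w₀ w).symm
  by_contra hne
  exact hw₀ ((mul_eq_right₀ hne).mp h)

theorem sum_left {w : W} (hw : w ≠ 1) : ∑ u, β u w = 0 := by
  obtain ⟨u₀, hu₀⟩ := Q.ndr w hw
  have h : β u₀ w * ∑ u, β u w = ∑ u, β u w := by
    rw [Finset.mul_sum]
    exact Fintype.sum_equiv (Equiv.mulLeft u₀) _ _ fun u => (Q.mul_left u₀ u w).symm
  by_contra hne
  exact hu₀ ((mul_eq_right₀ hne).mp h)

theorem sum_proj (f : Module.End k V) : ∑ w, proj ρ t β w f = (Fintype.card W : k) • f := by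
  simp only [proj_apply]
  rw [Finset.sum_comm, Finset.sum_eq_single (1 : W)]
  · simp only [one_left Q, inv_one, one_smul, Q.one_cj, Finset.sum_const, Finset.card_univ,
      Nat.cast_smul_eq_nsmul]
  · intro u _ hu
    rw [← Finset.sum_smul]
    simp only [inv_left Q]
    rw [sum_right Q (by simpa using hu), zero_smul]
  · simp

theorem proj_eig {w w' : W} {f : Module.End k V} (hf : f ∈ eig ρ t β w) (hne : w' ≠ w) :
    proj ρ t β w' f = 0 := by
  have hne' : w'⁻¹ * w ≠ 1 := fun h => hne (inv_mul_eq_one.mp h)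
  have h : ∀ u, (β u w')⁻¹ • cj ρ (t u) f = β u (w'⁻¹ * w) • f := fun u => by
    rw [hf u, smul_smul]
    congr 1
    rw [Q.mul_right]
    congr 1
    refine inv_eq_of_mul_eq_one_right ?_
    have h1 : β u 1 = 1 := by
      have h := Q.mul_right u 1 1
      rw [mul_one] at h
      exact (mul_eq_left₀ (Q.ne_zero u 1)).mp h.symm
    rw [← Q.mul_right, mul_inv_cancel, h1]
  rw [proj_apply, Finset.sum_congr rfl fun u _ => h u, ← Finset.sum_smul, sum_left Q hne', zero_smul]

theorem proj_eig_self {w : W} {f : Module.End k V} (hf : f ∈ eig ρ t β w) :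
    proj ρ t β w f = (Fintype.card W : k) • f := by
  rw [proj_apply, Finset.sum_congr rfl fun u _ => by
    rw [hf u, smul_smul, inv_mul_cancel₀ (Q.ne_zero u w), one_smul]]
  rw [Finset.sum_const, Finset.card_univ, Nat.cast_smul_eq_nsmul]

theorem finrank_eig (w : W) :
    Module.finrank k (eig ρ t β w) = Module.finrank k (eig ρ t β 1) := by
  have hone : ∀ u, β u 1 = 1 := fun u => by
    have h := Q.mul_right u 1 1
    rw [mul_one] at h
    exact (mul_eq_left₀ (Q.ne_zero u 1)).mp h.symm
  have hinv : ∀ u, cj ρ (t u) (ρ (t w)⁻¹) = (β u w)⁻¹ • ρ (t w)⁻¹ := by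
    intro u
    have h1 : cj ρ (t u) (ρ (t w)⁻¹) * cj ρ (t u) (ρ (t w)) = 1 := by
      rw [← map_mul, rho_inv_mul, map_one]
    rw [Q.cj_t, mul_smul_comm] at h1
    calc cj ρ (t u) (ρ (t w)⁻¹) = cj ρ (t u) (ρ (t w)⁻¹) * (ρ (t w) * ρ (t w)⁻¹) := by
          rw [rho_mul_inv, mul_one]
      _ = (β u w)⁻¹ • (β u w • (cj ρ (t u) (ρ (t w)⁻¹) * ρ (t w))) * ρ (t w)⁻¹ := by
          rw [inv_smul_smul₀ (Q.ne_zero u w), mul_assoc]
      _ = _ := by rw [h1, smul_mul_assoc, one_mul]
  refine LinearEquiv.finrank_eq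
    { toFun := fun f => ⟨ρ (t w)⁻¹ * f.1, fun u => by
        rw [map_mul, hinv, f.2 u, hone, one_smul, smul_mul_assoc, mul_smul_comm, smul_smul,
          inv_mul_cancel₀ (Q.ne_zero u w), one_smul]⟩
      invFun := fun f => ⟨ρ (t w) * f.1, fun u => by
        rw [map_mul, Q.cj_t, f.2 u, hone, one_smul, smul_mul_assoc]⟩
      left_inv := fun f => Subtype.ext (by
        show ρ (t w) * (ρ (t w)⁻¹ * f.1) = f.1
        rw [← mul_assoc, rho_mul_inv, one_mul])
      right_inv := fun f => Subtype.ext (by
        show ρ (t w)⁻¹ * (ρ (t w) * f.1) = f.1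
        rw [← mul_assoc, rho_inv_mul, one_mul])
      map_add' := fun f g => Subtype.ext (mul_add _ _ _)
      map_smul' := fun c f => Subtype.ext (mul_smul_comm _ _ _) }

theorem card_mul_finrank :
    Module.finrank k V * Module.finrank k V = Fintype.card W * Module.finrank k (eig ρ t β 1) := by
  have hdim : Module.finrank k (∀ w : W, eig ρ t β w) = Fintype.card W * Module.finrank k (eig ρ t β 1) := by
    rw [Module.finrank_pi_fintype, Finset.sum_congr rfl fun w _ => finrank_eig Q w, Finset.sum_const,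
      Finset.card_univ, smul_eq_mul]
  rw [← hdim, ← Module.finrank_linearMap k k V V]
  refine le_antisymm ?_ ?_
  · refine LinearMap.finrank_le_finrank_of_injective
      (f := LinearMap.pi fun w => (proj ρ t β w).codRestrict (eig ρ t β w) (proj_mem Q w)) ?_
    rw [injective_iff_map_eq_zero]
    intro f hf
    have h := sum_proj Q f
    have h0 : ∀ w, proj ρ t β w f = 0 := fun w => congrArg Subtype.val (congrFun hf w)
    rw [Finset.sum_eq_zero fun w _ => h0 w] at h
    exact (smul_eq_zero.mp h.symm).resolve_left Q.card_ne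
  · refine LinearMap.finrank_le_finrank_of_injective
      (f := ∑ w : W, (eig ρ t β w).subtype.comp (LinearMap.proj w)) ?_
    rw [injective_iff_map_eq_zero]
    intro c hc
    funext w
    refine Subtype.ext ?_
    have h := congrArg (proj ρ t β w) hc
    simp only [LinearMap.sum_apply, LinearMap.comp_apply, LinearMap.proj_apply, Submodule.subtype_apply,
      map_sum, map_zero] at h
    rw [Finset.sum_eq_single w, proj_eig_self Q (c w).2] at h
    · exact (smul_eq_zero.mp h).resolve_left Q.card_ne
    · exact fun w' _ hne => proj_eig Q (c w').2 (Ne.symm hne)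
    · simp

/-- An element permuting the section fixes few endomorphisms, hence few vectors. -/
theorem sq_fixed_le {p : ℕ} [Fact p.Prime] {x : G} (π : Equiv.Perm W) (hπ : π ^ p = 1)
    (hx : ∀ u f, cj ρ x (cj ρ (t u) f) = cj ρ (t (π u)) (cj ρ x f))
    (hβ : ∀ u w, β (π u) (π w) = β u w) (hxne : ρ x ≠ 1) :
    p * (Module.finrank k (fixed ρ x) * Module.finrank k (fixed ρ x) + 1) ≤
      Module.finrank k (eig ρ t β 1) *
        (Fintype.card W + (p - 1) * Nat.card {w : W // π w = w}) := by
  have h1 := finrank_fixed_le p (cj ρ x).toLinearMap π hπ (proj ρ t β)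
    (fun f hf => by
      have h := sum_proj Q f
      rw [Finset.sum_eq_zero fun w _ => hf w] at h
      exact (smul_eq_zero.mp h.symm).resolve_left Q.card_ne)
    (fun w f => by
      show cj ρ x (proj ρ t β w f) = proj ρ t β (π w) (cj ρ x f)
      rw [proj_apply, proj_apply, map_sum]
      refine Fintype.sum_equiv π _ _ fun u => ?_
      rw [map_smul, hx, hβ])
    (Module.finrank k (eig ρ t β 1)) (fun w => by
      rw [← finrank_eig Q w]
      refine Submodule.finrank_mono ?_
      rintro _ ⟨f, rfl⟩
      exact proj_mem Q w f)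
  rw [Nat.card_eq_fintype_card (α := W)] at h1
  refine le_trans (Nat.mul_le_mul_left p ?_) h1
  set C := fixed ρ x
  set R := LinearMap.range (ρ x - LinearMap.id)
  have hq : Module.finrank k (V ⧸ R) = Module.finrank k C := by
    have a := Submodule.finrank_quotient_add_finrank R
    have b := LinearMap.finrank_range_add_finrank_ker (ρ x - LinearMap.id)
    change Module.finrank k R + Module.finrank k C = _ at b
    omega
  have hR : ∀ v, R.mkQ (ρ x v) = R.mkQ v := fun v => (Submodule.Quotient.eq R).mpr ⟨v, rfl⟩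
  let Ψ : ((V ⧸ R →ₗ[k] C) × k) →ₗ[k] Module.End k V :=
    { toFun := fun z => C.subtype.comp (z.1.comp R.mkQ) + z.2 • (1 : Module.End k V)
      map_add' := fun a b => by
        ext v
        simp only [Prod.fst_add, Prod.snd_add, LinearMap.add_apply, LinearMap.comp_apply, map_add,
          LinearMap.smul_apply, add_smul]
        abel
      map_smul' := fun c a => by
        ext v
        simp [smul_add, smul_smul] }
  have hΨ : ∀ z, Ψ z ∈ LinearMap.ker ((cj ρ x).toLinearMap - LinearMap.id) := by
    intro z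
    rw [LinearMap.mem_ker, LinearMap.sub_apply, LinearMap.id_apply, sub_eq_zero]
    show cj ρ x (C.subtype.comp (z.1.comp R.mkQ) + z.2 • (1 : Module.End k V)) = _
    rw [map_add, map_smul, map_one]
    congr 1
    rw [cj_eq_iff]
    ext v
    show ρ x ((z.1 (R.mkQ v) : C) : V) = ((z.1 (R.mkQ (ρ x v)) : C) : V)
    rw [hR, mem_fixed.mp (z.1 (R.mkQ v)).2]
  have hinj : Function.Injective (Ψ.codRestrict _ hΨ) := by
    rw [injective_iff_map_eq_zero]
    rintro ⟨h, a⟩ hz
    have hz' : ∀ v, ((h (R.mkQ v) : C) : V) + a • v = 0 := fun v =>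
      LinearMap.congr_fun (congrArg Subtype.val hz) v
    have ha : a = 0 := by
      by_contra ha
      refine hxne (LinearMap.ext fun v => ?_)
      have hv : v ∈ C := by
        have h2 : a • v ∈ C := by
          rw [eq_neg_of_add_eq_zero_right (hz' v)]
          exact C.neg_mem (h (R.mkQ v)).2
        simpa [smul_smul, inv_mul_cancel₀ ha] using C.smul_mem a⁻¹ h2
      exact mem_fixed.mp hv
    subst ha
    refine Prod.ext ?_ rfl
    refine LinearMap.ext fun q => ?_
    obtain ⟨v, rfl⟩ := R.mkQ_surjective q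
    refine Subtype.ext ?_
    simpa using hz' v
  have := LinearMap.finrank_le_finrank_of_injective hinj
  rwa [Module.finrank_prod, Module.finrank_linearMap, Module.finrank_self, hq] at this

end Cfsg.Agent.LocalFlavell.HalfFixed
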