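import Cfsg.Agent.LocalFlavell.HalfFixed.Abelian
import Cfsg.Agent.LocalFlavell.HalfFixed.Central

/-!
Fixed vectors of an element of prime order `p > 3` generating a solvable group normally fill less than
half of every faithful irreducible module.
-/

set_option autoImplicit false
set_option linter.style.haveILetI false

namespace Cfsg.Agent.LocalFlavell.HalfFixed

universe u v w

section

variable {G : Type u} [Group G] [Finite G] {k : Type v} [Field k] {V : Type w} [AddCommGroup V]
  [Module k V] [FiniteDimensional k V] {p : ℕ} [hpF : Fact p.Prime] {x : G} {ρ : Representation k G V}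

theorem half_step (IH : SmallerHalf.{u} p (Nat.card G)) (hsol : Group.IsSolvable G)
    (S : Setup p x ρ) (hV : Nontrivial V) : Half ρ x := by
  classical
  by_cases hex : ∃ A : Subgroup G, A.Normal ∧ IsMulCommutative A ∧ ¬ A ≤ Subgroup.center G
  · obtain ⟨A, hA, hAc, hAZ⟩ := hex
    exact (half_or_field S hsol hV A).resolve_right fun h => hAZ h.2
  push Not at hex
  rcases half_or_field S hsol hV (Subgroup.center G) with h | ⟨hfield, -⟩
  · exact h
  letI : CommRing (span ρ (Subgroup.center G)) :=
    { (inferInstance : Ring (span ρ (Subgroup.center G))) with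
      mul_comm := fun a b => Subtype.ext (span_comm ρ _ a a.2 b b.2) }
  have hF : IsField (span ρ (Subgroup.center G)) :=
    { exists_pair_ne := by
        obtain ⟨v, hv⟩ := exists_ne (0 : V)
        refine ⟨0, 1, fun e => hv ?_⟩
        simpa using (LinearMap.congr_fun (congrArg Subtype.val e) v).symm
      mul_comm := mul_comm
      mul_inv_cancel := fun {a} ha => by
        obtain ⟨s, hs, h⟩ := hfield a a.2 fun e => ha (Subtype.ext e)
        exact ⟨⟨s, hs⟩, Subtype.ext ((span_comm ρ _ a a.2 s hs).trans h)⟩ }
  letI : Field (span ρ (Subgroup.center G)) := hF.toField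
  haveI : FiniteDimensional (span ρ (Subgroup.center G)) V := Module.Finite.of_restrictScalars_finite k _ _
  have hcomm : ∀ (g : G) (c : span ρ (Subgroup.center G)) (v : V),
      ρ g ((c : Module.End k V) v) = (c : Module.End k V) (ρ g v) := by
    intro g c v
    have hle : span ρ (Subgroup.center G) ≤ AlgHom.equalizer (cj ρ g) (AlgHom.id k _) := by
      refine Algebra.adjoin_le ?_
      rintro _ ⟨z, hz, rfl⟩
      show cj ρ g (ρ z) = ρ z
      rw [cj_rho, Subgroup.mem_center_iff.mp hz g, mul_inv_cancel_right]
    exact LinearMap.congr_fun (cj_eq_iff ρ |>.mp (hle c.2 : cj ρ g (c : Module.End k V) = c)) v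
  let ρK : Representation (span ρ (Subgroup.center G)) G V :=
    { toFun := fun g =>
        { toFun := ρ g
          map_add' := map_add _
          map_smul' := fun c v => hcomm g c v }
      map_one' := LinearMap.ext fun v => LinearMap.congr_fun (map_one ρ) v
      map_mul' := fun a b => LinearMap.ext fun v => LinearMap.congr_fun (map_mul ρ a b) v }
  have hρK : ∀ g v, ρK g v = ρ g v := fun g v => rfl
  have SK : Setup p x ρK :=
    { hp := S.hp
      xp := S.xp
      gen := S.gen
      faithful := fun a b h => S.faithful (LinearMap.ext fun v => LinearMap.congr_fun h v)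
      irr := fun W hW => by
        rcases S.irr (W.restrictScalars k) hW with h | h
        · exact Or.inl ((Submodule.restrictScalars_eq_bot_iff k _ _).mp h)
        · exact Or.inr ((Submodule.restrictScalars_eq_top_iff k _ _).mp h)
      ne := S.ne }
  have hhalf := half_of_central IH hsol SK hV
    (fun z hz => ⟨⟨ρ z, Algebra.subset_adjoin ⟨z, hz, rfl⟩⟩, LinearMap.ext fun v => rfl⟩) hex
  let e : fixed ρK x ≃ₗ[k] fixed ρ x :=
    { toFun := fun v => ⟨v.1, mem_fixed.mpr ((hρK x v.1).symm.trans (mem_fixed.mp v.2))⟩
      invFun := fun v => ⟨v.1, mem_fixed.mpr ((hρK x v.1).trans (mem_fixed.mp v.2))⟩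
      map_add' := fun _ _ => rfl
      map_smul' := fun _ _ => rfl
      left_inv := fun _ => rfl
      right_inv := fun _ => rfl }
  show 2 * Module.finrank k (fixed ρ x) < _
  rw [← e.finrank_eq, ← Module.finrank_mul_finrank k (span ρ (Subgroup.center G)) (fixed ρK x),
    ← Module.finrank_mul_finrank k (span ρ (Subgroup.center G)) V, mul_left_comm]
  exact Nat.mul_lt_mul_of_pos_left hhalf Module.finrank_pos

end

theorem smallerHalf (p : ℕ) [Fact p.Prime] : ∀ n, SmallerHalf.{u} p n := by
  intro n
  induction n with
  | zero => intro H _ _ h; omega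
  | succ n ih =>
    intro H _ _ hlt hsol r _ U _ _ _ σ y S hU
    exact half_step (fun H' _ _ h' => ih H' (lt_of_lt_of_le h' (Nat.lt_succ_iff.mp hlt))) hsol S hU

/-- The bound on fixed vectors. -/
theorem half {G : Type u} [Group G] [Finite G] (hsol : Group.IsSolvable G) {k : Type v} [Field k]
    {V : Type w} [AddCommGroup V] [Module k V] [FiniteDimensional k V] [Nontrivial V] {p : ℕ}
    [Fact p.Prime] {x : G} {ρ : Representation k G V} (S : Setup p x ρ) : Half ρ x :=
  half_step (smallerHalf p _) hsol S inferInstance

end Cfsg.Agent.LocalFlavell.HalfFixed
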