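import Cfsg.Agent.LocalFlavell.HalfFixed.Counting

/-!
The setting of the bound on fixed vectors, and conjugation on endomorphisms.
-/

set_option autoImplicit false

namespace Cfsg.Agent.LocalFlavell.HalfFixed

universe u v w

variable {G : Type u} [Group G] {k : Type v} [Field k] {V : Type w} [AddCommGroup V] [Module k V]

/-- An element of prime order `p > 3` generating `G` normally, in a faithful irreducible representation. -/
structure Setup (p : ℕ) (x : G) (ρ : Representation k G V) : Prop where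
  hp : 3 < p
  xp : x ^ p = 1
  gen : ∀ N : Subgroup G, N.Normal → x ∈ N → N = ⊤
  faithful : Function.Injective ρ
  irr : ∀ W : Submodule k V, (∀ g : G, ∀ v ∈ W, ρ g v ∈ W) → W = ⊥ ∨ W = ⊤
  ne : x ≠ 1

/-- The fixed vectors of `x`. -/
def fixed (ρ : Representation k G V) (x : G) : Submodule k V :=
  LinearMap.ker (ρ x - LinearMap.id)

/-- The bound to be proved. -/
def Half (ρ : Representation k G V) (x : G) : Prop :=
  2 * Module.finrank k (fixed ρ x) < Module.finrank k V

theorem mem_fixed {ρ : Representation k G V} {x : G} {v : V} : v ∈ fixed ρ x ↔ ρ x v = v := by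
  rw [fixed, LinearMap.mem_ker, LinearMap.sub_apply, LinearMap.id_apply, sub_eq_zero]

variable (ρ : Representation k G V)

theorem rho_inv_mul (g : G) : ρ g⁻¹ * ρ g = 1 := by rw [← map_mul, inv_mul_cancel, map_one]

theorem rho_mul_inv (g : G) : ρ g * ρ g⁻¹ = 1 := by rw [← map_mul, mul_inv_cancel, map_one]

/-- Conjugation by `ρ g`. -/
def cj (g : G) : Module.End k V →ₐ[k] Module.End k V where
  toFun f := ρ g * f * ρ g⁻¹
  map_one' := by rw [mul_one, rho_mul_inv]
  map_mul' f h := by
    rw [show ρ g * f * ρ g⁻¹ * (ρ g * h * ρ g⁻¹) = ρ g * f * (ρ g⁻¹ * ρ g) * h * ρ g⁻¹ by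
      simp only [mul_assoc], rho_inv_mul, mul_one, mul_assoc (ρ g) f h]
  map_zero' := by rw [mul_zero, zero_mul]
  map_add' f h := by rw [mul_add, add_mul]
  commutes' r := by
    rw [← Algebra.commutes, mul_assoc, rho_mul_inv, mul_one]

theorem cj_apply (g : G) (f : Module.End k V) : cj ρ g f = ρ g * f * ρ g⁻¹ := rfl

theorem cj_cj (g h : G) (f : Module.End k V) : cj ρ g (cj ρ h f) = cj ρ (g * h) f := by
  rw [cj_apply, cj_apply, cj_apply, mul_inv_rev, map_mul, map_mul]
  simp only [mul_assoc]

theorem cj_one (f : Module.End k V) : cj ρ 1 f = f := by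
  rw [cj_apply, inv_one, map_one, one_mul, mul_one]

theorem cj_rho (g a : G) : cj ρ g (ρ a) = ρ (g * a * g⁻¹) := by
  rw [cj_apply, map_mul, map_mul]

theorem cj_eq_iff {g : G} {f : Module.End k V} : cj ρ g f = f ↔ ρ g * f = f * ρ g := by
  rw [cj_apply]
  constructor
  · intro h
    conv_rhs => rw [← h]
    rw [mul_assoc, rho_inv_mul, mul_one]
  · intro h
    rw [h, mul_assoc, rho_mul_inv, mul_one]

theorem cj_apply_vec (g : G) (f : Module.End k V) (v : V) : cj ρ g f (ρ g v) = ρ g (f v) := by
  show ρ g (f (ρ g⁻¹ (ρ g v))) = _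
  rw [show ρ g⁻¹ (ρ g v) = v by rw [← Module.End.mul_apply, rho_inv_mul, Module.End.one_apply]]

/-- An endomorphism commuting with the group has trivial or full range and kernel. -/
theorem range_bot_or_top {p : ℕ} {x : G} (S : Setup p x ρ) {f : Module.End k V}
    (hf : ∀ g, cj ρ g f = f) : LinearMap.range f = ⊥ ∨ LinearMap.range f = ⊤ :=
  S.irr _ fun g v hv => by
    obtain ⟨w, rfl⟩ := hv
    exact ⟨ρ g w, by conv_lhs => rw [← hf g, cj_apply_vec]⟩

end Cfsg.Agent.LocalFlavell.HalfFixed
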